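import Mathlib

/-! Schur rings of transitive groups containing a regular subgroup: kernels invariant under the group. -/

set_option autoImplicit false

namespace Cfsg.Lib.DihB

open Finset

variable {D : Type*} [Group D] {G : Subgroup (Equiv.Perm D)}

/-- `F (u⁻¹ v)` is invariant under `G`. -/
def Inv (G : Subgroup (Equiv.Perm D)) {α : Type*} (F : D → α) : Prop :=
  ∀ g ∈ G, ∀ u v : D, F ((g u)⁻¹ * g v) = F (u⁻¹ * v)

/-- No non-trivial subgroup of `D` gives an invariant partition. -/
def Prim (G : Subgroup (Equiv.Perm D)) : Prop :=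
  ∀ K : Subgroup D, Inv G (fun d => d ∈ K) → K = ⊥ ∨ K = ⊤

theorem inv_closure {S : Set D} (hS : Inv G (fun d => d ∈ S)) :
    Inv G (fun d => d ∈ Subgroup.closure S) := by
  have key : ∀ k ∈ Subgroup.closure S, ∀ g ∈ G, ∀ (u v : D), u⁻¹ * v = k →
      (g u)⁻¹ * g v ∈ Subgroup.closure S := by
    intro k hk
    induction hk using Subgroup.closure_induction with
    | mem x hx =>
      intro g hg u v h
      exact Subgroup.subset_closure ((hS g hg u v).mpr (by rw [h]; exact hx))
    | one =>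
      intro g _ u v h
      rw [inv_mul_eq_one.1 h, inv_mul_cancel]
      exact one_mem _
    | mul a b _ _ iha ihb =>
      intro g hg u v h
      have h1 := iha g hg u (u * a) (inv_mul_cancel_left u a)
      have h2 := ihb g hg (u * a) v (by rw [mul_inv_rev, mul_assoc, h, inv_mul_cancel_left])
      have := mul_mem h1 h2
      rwa [mul_assoc, mul_inv_cancel_left] at this
    | inv a _ iha =>
      intro g hg u v h
      have := inv_mem (iha g hg v u (by rw [← inv_inv a, ← h, mul_inv_rev, inv_inv]))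
      rwa [mul_inv_rev, inv_inv] at this
  intro g hg u v
  refine propext ⟨fun h => ?_, fun h => key _ h g hg u v rfl⟩
  have := key _ h g⁻¹ (inv_mem hg) (g u) (g v) rfl
  simpa using this

/-- Left invariance of an invariant kernel by a non-identity element makes it constant. -/
theorem const_of_left_inv (hprim : Prim G) {α : Type*} {F : D → α} (hF : Inv G F) {a : D} (ha : a ≠ 1)
    (h : ∀ d, F (a * d) = F d) (d : D) : F d = F 1 := by
  let K : Subgroup D :=
    { carrier := {t | ∀ d, F (t * d) = F d}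
      one_mem' := fun d => by rw [one_mul]
      mul_mem' := fun {x y} hx hy d => by rw [mul_assoc, hx, hy]
      inv_mem' := fun {x} hx d => by rw [← hx (x⁻¹ * d), mul_inv_cancel_left] }
  have key : ∀ u v, u⁻¹ * v ∈ K ↔ ∀ w, F (u⁻¹ * w) = F (v⁻¹ * w) := by
    intro u v
    constructor
    · intro hK w
      rw [← hK (v⁻¹ * w), mul_assoc, mul_inv_cancel_left]
    · intro hK t
      have := hK (v * t)
      rwa [inv_mul_cancel_left, ← mul_assoc] at this
  have hK : Inv G (fun d => d ∈ K) := by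
    intro g hg u v
    refine propext ?_
    dsimp only
    rw [key, key]
    constructor
    · intro h' w
      have := h' (g w)
      rwa [hF g hg, hF g hg] at this
    · intro h' w
      have := h' (g.symm w)
      rw [← hF g hg u, ← hF g hg v] at this
      simpa using this
  rcases hprim K hK with h' | h'
  · exact absurd (Subgroup.mem_bot.1 (h' ▸ (show a ∈ K from h))) ha
  · have : d ∈ K := h' ▸ Subgroup.mem_top d
    simpa using this 1

/-- The symmetrized class of `d`. -/
def cls (G : Subgroup (Equiv.Perm D)) (d : D) : Set D :=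
  {z | ∃ g ∈ G, ∃ u v : D, u⁻¹ * v = d ∧ ((g u)⁻¹ * g v = z ∨ (g u)⁻¹ * g v = z⁻¹)}

theorem mem_cls_self (d : D) : d ∈ cls G d :=
  ⟨1, one_mem _, 1, d, by simp, Or.inl (by simp)⟩

theorem inv_mem_cls {d z : D} (h : z ∈ cls G d) : z⁻¹ ∈ cls G d := by
  obtain ⟨g, hg, u, v, h1, h2⟩ := h
  exact ⟨g, hg, u, v, h1, h2.symm.imp id fun h => by rw [h, inv_inv]⟩

theorem one_notMem_cls {d : D} (hd : d ≠ 1) : (1 : D) ∉ cls G d := by
  rintro ⟨g, -, u, v, h1, h2⟩
  rw [inv_one, or_self, inv_mul_eq_one, g.injective.eq_iff] at h2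
  rw [h2, inv_mul_cancel] at h1
  exact hd h1.symm

theorem inv_cls (hL : ∀ t : D, Equiv.mulLeft t ∈ G) (d : D) : Inv G (fun z => z ∈ cls G d) := by
  have key : ∀ g ∈ G, ∀ u v : D, u⁻¹ * v ∈ cls G d → (g u)⁻¹ * g v ∈ cls G d := by
    intro g hg u v ⟨g₁, hg₁, a, b, hab, h⟩
    rcases h with h | h
    · refine ⟨g * Equiv.mulLeft (u * (g₁ a)⁻¹) * g₁, mul_mem (mul_mem hg (hL _)) hg₁, a, b, hab, Or.inl ?_⟩
      have h' : g₁ b = g₁ a * (u⁻¹ * v) := by rw [← h, mul_inv_cancel_left]
      simp [h', mul_assoc]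
    · refine ⟨g * Equiv.mulLeft (v * (g₁ a)⁻¹) * g₁, mul_mem (mul_mem hg (hL _)) hg₁, a, b, hab, Or.inr ?_⟩
      have h' : g₁ b = g₁ a * (u⁻¹ * v)⁻¹ := by rw [← h, mul_inv_cancel_left]
      simp [h', mul_assoc]
  intro g hg u v
  refine propext ⟨fun h => ?_, key g hg u v⟩
  have := key g⁻¹ (inv_mem hg) (g u) (g v) h
  simpa using this

section algebra

variable {R : Type*} [CommRing R]

/-- Symmetric invariant elements of the group ring. -/
def IsB (G : Subgroup (Equiv.Perm D)) (M : MonoidAlgebra R D) : Prop :=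
  Inv G (fun d => M.coeff d) ∧ ∀ d, M.coeff d⁻¹ = M.coeff d

theorem IsB.apply_eq {M : MonoidAlgebra R D} (hM : IsB G M) {d z : D} (h : z ∈ cls G d) :
    M.coeff z = M.coeff d := by
  obtain ⟨g, hg, u, v, h1, h2⟩ := h
  have h3 := hM.1 g hg u v
  dsimp only at h3
  rw [h1] at h3
  rcases h2 with h2 | h2 <;> rw [h2] at h3
  · exact h3
  · rwa [hM.2] at h3

theorem IsB.add {M M' : MonoidAlgebra R D} (h : IsB G M) (h' : IsB G M') : IsB G (M + M') := by
  refine ⟨fun g hg u v => ?_, fun d => ?_⟩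
  · simp only [MonoidAlgebra.coeff_add, Finsupp.add_apply]
    exact congrArg₂ (· + ·) (h.1 g hg u v) (h'.1 g hg u v)
  · simp only [MonoidAlgebra.coeff_add, Finsupp.add_apply]
    rw [h.2, h'.2]

theorem IsB.sub {M M' : MonoidAlgebra R D} (h : IsB G M) (h' : IsB G M') : IsB G (M - M') := by
  refine ⟨fun g hg u v => ?_, fun d => ?_⟩
  · simp only [MonoidAlgebra.coeff_sub, Finsupp.sub_apply]
    exact congrArg₂ (· - ·) (h.1 g hg u v) (h'.1 g hg u v)
  · simp only [MonoidAlgebra.coeff_sub, Finsupp.sub_apply]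
    rw [h.2, h'.2]

theorem IsB.smul {M : MonoidAlgebra R D} (h : IsB G M) (r : R) : IsB G (r • M) := by
  refine ⟨fun g hg u v => ?_, fun d => ?_⟩
  · simp only [MonoidAlgebra.coeff_smul, Finsupp.smul_apply]
    exact congrArg (r • ·) (h.1 g hg u v)
  · simp only [MonoidAlgebra.coeff_smul, Finsupp.smul_apply]
    rw [h.2]

theorem isB_zero : IsB G (0 : MonoidAlgebra R D) :=
  ⟨fun _ _ _ _ => by simp, fun _ => by simp⟩

theorem isB_one : IsB G (1 : MonoidAlgebra R D) := by
  classical
  refine ⟨fun g _ u v => ?_, fun d => ?_⟩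
  · simp [MonoidAlgebra.one_def, MonoidAlgebra.coeff_single, Finsupp.single_apply, eq_comm (a := (1 : D)),
      inv_mul_eq_one, g.injective.eq_iff]
  · simp [MonoidAlgebra.one_def, MonoidAlgebra.coeff_single, Finsupp.single_apply, eq_comm (a := (1 : D))]

variable [Fintype D]

/-- The group ring element with given coefficients. -/
noncomputable def mk (f : D → R) : MonoidAlgebra R D := MonoidAlgebra.ofCoeff (Finsupp.equivFunOnFinite.symm f)

@[simp] theorem coeff_mk (f : D → R) (d : D) : (mk f).coeff d = f d := by simp [mk]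

theorem isB_mk {f : D → R} (h : Inv G f) (h' : ∀ d, f d⁻¹ = f d) : IsB G (mk f) :=
  ⟨fun g hg u v => by simp only [coeff_mk]; exact h g hg u v, fun d => by simp only [coeff_mk, h']⟩

theorem mul_apply' (a b : MonoidAlgebra R D) (d : D) :
    (a * b).coeff d = ∑ w, a.coeff w * b.coeff (w⁻¹ * d) := by
  rw [MonoidAlgebra.coeff_mul_apply_left, Finsupp.sum_fintype _ _ (fun _ => zero_mul _)]

theorem mul_kernel (a b : MonoidAlgebra R D) (u v : D) :
    (a * b).coeff (u⁻¹ * v) = ∑ w, a.coeff (u⁻¹ * w) * b.coeff (w⁻¹ * v) := by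
  rw [mul_apply']
  refine (Fintype.sum_equiv (Equiv.mulLeft u⁻¹) _ _ fun w => ?_).symm
  simp [mul_assoc]

theorem inv_mulAlg {a b : MonoidAlgebra R D} (ha : Inv G (fun d => a.coeff d)) (hb : Inv G (fun d => b.coeff d)) :
    Inv G (fun d => (a * b).coeff d) := by
  intro g hg u v
  dsimp only
  rw [mul_kernel, mul_kernel]
  refine (Fintype.sum_equiv g _ _ fun w => ?_).symm
  exact congrArg₂ (· * ·) (ha g hg u w).symm (hb g hg w v).symm

theorem mul_coeff_inv {a b : MonoidAlgebra R D} (ha : ∀ d, a.coeff d⁻¹ = a.coeff d) (hb : ∀ d, b.coeff d⁻¹ = b.coeff d)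
    (d : D) : (a * b).coeff d⁻¹ = (b * a).coeff d := by
  rw [mul_apply', mul_apply']
  refine Fintype.sum_equiv (Equiv.mulLeft d) _ _ fun w => ?_
  simp only [Equiv.coe_mulLeft, mul_inv_rev, mul_assoc, inv_mul_cancel, mul_one]
  rw [mul_comm, ha, ← hb (w⁻¹ * d⁻¹), mul_inv_rev, inv_inv, inv_inv]

end algebra

end Cfsg.Lib.DihB
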