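import Mathlib
import Cfsg.Agent.Lib.Perm.DihedralBGroup.Basic

/-! Group ring of a dihedral group as pairs over the group ring of the rotations. -/

set_option autoImplicit false

namespace Cfsg.Lib.DihB

open DihedralGroup Finset

abbrev CAlg (m : ℕ) := AddMonoidAlgebra ℤ (ZMod m)
abbrev DAlg (m : ℕ) := MonoidAlgebra ℤ (DihedralGroup m)

variable {m : ℕ} [NeZero m]

/-- An element of the rotation algebra with given coefficients. -/
noncomputable def mkC (f : ZMod m → ℤ) : CAlg m := AddMonoidAlgebra.ofCoeff (Finsupp.equivFunOnFinite.symm f)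

@[simp] theorem coeff_mkC (f : ZMod m → ℤ) (c : ZMod m) : (mkC f).coeff c = f c := by simp [mkC]

theorem extC {X X' : CAlg m} (h : ∀ c, X.coeff c = X'.coeff c) : X = X' :=
  AddMonoidAlgebra.coeff_injective (Finsupp.ext h)

theorem extD {X X' : DAlg m} (h : ∀ c, X.coeff c = X'.coeff c) : X = X' :=
  MonoidAlgebra.coeff_injective (Finsupp.ext h)

theorem mulC_apply (a b : CAlg m) (c : ZMod m) : (a * b).coeff c = ∑ i, a.coeff i * b.coeff (c - i) := by
  rw [AddMonoidAlgebra.coeff_mul_apply_left, Finsupp.sum_fintype _ _ (fun _ => zero_mul _)]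
  simp [neg_add_eq_sub]

theorem sum_dihedral {β : Type*} [AddCommMonoid β] (f : DihedralGroup m → β) :
    ∑ d, f d = (∑ i, f (r i)) + ∑ i, f (sr i) := by
  let e : ZMod m ⊕ ZMod m ≃ DihedralGroup m :=
    { toFun := Sum.elim r sr
      invFun := fun d => match d with | r i => Sum.inl i | sr i => Sum.inr i
      left_inv := fun x => by cases x <;> rfl
      right_inv := fun x => by cases x <;> rfl }
  rw [← Fintype.sum_equiv e (fun x => f (e x)) f (fun _ => rfl), Fintype.sum_sum_type]
  rfl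

/-- Rotation part. -/
noncomputable def xp (M : DAlg m) : CAlg m := mkC fun c => M.coeff (r c)
/-- Reflection part. -/
noncomputable def yp (M : DAlg m) : CAlg m := mkC fun c => M.coeff (sr c)
/-- Inversion. -/
noncomputable def bar (Y : CAlg m) : CAlg m := mkC fun c => Y.coeff (-c)

@[simp] theorem coeff_xp (M : DAlg m) (c : ZMod m) : (xp M).coeff c = M.coeff (r c) := coeff_mkC _ _
@[simp] theorem coeff_yp (M : DAlg m) (c : ZMod m) : (yp M).coeff c = M.coeff (sr c) := coeff_mkC _ _
@[simp] theorem coeff_bar (Y : CAlg m) (c : ZMod m) : (bar Y).coeff c = Y.coeff (-c) := coeff_mkC _ _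

theorem ext_parts {M M' : DAlg m} (h1 : xp M = xp M') (h2 : yp M = yp M') : M = M' := by
  refine extD fun d => ?_
  rcases d with c | c
  · rw [← coeff_xp, h1, coeff_xp]
  · rw [← coeff_yp, h2, coeff_yp]

theorem bar_mul (a b : CAlg m) : bar (a * b) = bar a * bar b := by
  refine extC fun c => ?_
  simp only [coeff_bar, mulC_apply]
  refine Fintype.sum_equiv (Equiv.neg _) _ _ fun i => ?_
  simp only [coeff_bar, Equiv.neg_apply, neg_neg]
  congr 2
  abel

theorem xp_mul (M M' : DAlg m) : xp (M * M') = xp M * xp M' + bar (yp M) * yp M' := by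
  refine extC fun c => ?_
  simp only [coeff_xp, AddMonoidAlgebra.coeff_add, Finsupp.add_apply, mulC_apply, coeff_bar, coeff_yp,
    mul_apply', sum_dihedral]
  refine congrArg₂ (· + ·) (sum_congr rfl fun i _ => ?_) (Fintype.sum_equiv (Equiv.neg _) _ _ fun i => ?_)
  · simp [neg_add_eq_sub]
  · simp [add_comm i c]

theorem yp_mul (M M' : DAlg m) : yp (M * M') = bar (xp M) * yp M' + yp M * xp M' := by
  refine extC fun c => ?_
  simp only [coeff_xp, AddMonoidAlgebra.coeff_add, Finsupp.add_apply, mulC_apply, coeff_bar, coeff_yp,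
    mul_apply', sum_dihedral]
  refine congrArg₂ (· + ·) (Fintype.sum_equiv (Equiv.neg _) _ _ fun i => ?_) (sum_congr rfl fun i _ => ?_)
  · simp [sub_neg_eq_add]
  · simp

theorem xp_one : xp (1 : DAlg m) = 1 := by
  classical
  refine extC fun c => ?_
  simp [MonoidAlgebra.one_def, AddMonoidAlgebra.one_def, MonoidAlgebra.coeff_single, AddMonoidAlgebra.coeff_single,
    Finsupp.single_apply, ← r_zero]

theorem yp_one : yp (1 : DAlg m) = 0 := by
  classical
  refine extC fun c => ?_
  simp [MonoidAlgebra.one_def, MonoidAlgebra.coeff_single, Finsupp.single_apply, ← r_zero]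

variable {G : Subgroup (Equiv.Perm (DihedralGroup m))}

theorem IsB.bar_xp {M : DAlg m} (h : IsB G M) : bar (xp M) = xp M :=
  extC fun c => by simp [← h.2 (r c)]

theorem r_injective {i j : ZMod m} (h : (r i : DihedralGroup m) = r j) : i = j := by simpa using h

theorem r_ne_one {c : ZMod m} (hc : c ≠ 0) : (r c : DihedralGroup m) ≠ 1 := fun h => hc (r_injective h)

theorem sr_ne_one (c : ZMod m) : (sr c : DihedralGroup m) ≠ 1 := fun h => by cases h

/-- The rotations. -/
def rot (m : ℕ) : Subgroup (DihedralGroup m) where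
  carrier := Set.range r
  one_mem' := ⟨0, rfl⟩
  mul_mem' := by rintro _ _ ⟨i, rfl⟩ ⟨j, rfl⟩; exact ⟨i + j, rfl⟩
  inv_mem' := by rintro _ ⟨i, rfl⟩; exact ⟨-i, rfl⟩

/-- An invariant set of rotations other than the identity is empty. -/
theorem no_rot_set (hprim : Prim G) {S : Set (DihedralGroup m)} (hS : Inv G (fun d => d ∈ S))
    (hsub : S ⊆ rot m) {d : DihedralGroup m} (hd : d ∈ S) : d = 1 := by
  rcases hprim _ (inv_closure hS) with h | h
  · have := Subgroup.subset_closure (k := S) hd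
    rw [h] at this
    exact Subgroup.mem_bot.1 this
  · have : (sr 0 : DihedralGroup m) ∈ rot m := (Subgroup.closure_le _).2 hsub (h ▸ Subgroup.mem_top _)
    obtain ⟨i, hi⟩ := this
    cases hi

theorem IsB.comm (hprim : Prim G) {a b : DAlg m} (ha : IsB G a) (hb : IsB G b) : a * b = b * a := by
  set K : DihedralGroup m → ℤ := fun d => (a * b).coeff d - (b * a).coeff d with hK
  have hinv : Inv G K := fun g hg u v => congrArg₂ (· - ·) (inv_mulAlg ha.1 hb.1 g hg u v) (inv_mulAlg hb.1 ha.1 g hg u v)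
  have hanti : ∀ d, K d⁻¹ = -K d := fun d => by
    simp only [hK, mul_coeff_inv ha.2 hb.2, mul_coeff_inv hb.2 ha.2]; ring
  refine extD fun d => sub_eq_zero.1 (show K d = 0 from ?_)
  by_contra hne
  have hsub : {d | K d ≠ 0} ⊆ (rot m : Set (DihedralGroup m)) := by
    rintro (c | c) hd
    · exact ⟨c, rfl⟩
    · have := hanti (sr c)
      rw [inv_sr] at this
      exact absurd (by omega : K (sr c) = 0) hd
  have h1 := no_rot_set hprim (S := {d | K d ≠ 0}) (fun g hg u v => by simp only [Set.mem_setOf_eq, hinv g hg u v]) hsub hne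
  have := hanti d
  rw [h1, inv_one] at this
  exact hne (by rw [h1]; omega)

theorem IsB.mul (hprim : Prim G) {a b : DAlg m} (ha : IsB G a) (hb : IsB G b) : IsB G (a * b) :=
  ⟨inv_mulAlg ha.1 hb.1, fun d => by rw [mul_coeff_inv ha.2 hb.2, ha.comm hprim hb]⟩

theorem IsB.pow (hprim : Prim G) {a : DAlg m} (ha : IsB G a) : ∀ n, IsB G (a ^ n)
  | 0 => by rw [pow_zero]; exact isB_one
  | n + 1 => by rw [pow_succ]; exact (ha.pow hprim n).mul hprim ha

theorem IsB.xp_mul {a b : DAlg m} : xp (a * b) = xp a * xp b + bar (yp a) * yp b :=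
  Cfsg.Lib.DihB.xp_mul a b

theorem IsB.yp_mul {a b : DAlg m} (ha : IsB G a) : yp (a * b) = xp a * yp b + yp a * xp b := by
  rw [Cfsg.Lib.DihB.yp_mul, ha.bar_xp]

/-- The rotation part of a power. -/
theorem xp_pow (hprim : Prim G) {M : DAlg m} (h : IsB G M) (n : ℕ) :
    xp (M ^ n) = ∑ j ∈ range (n + 1), if Even j then
      (n.choose j : CAlg m) * (xp M) ^ (n - j) * (bar (yp M) * yp M) ^ (j / 2) else 0 := by
  set N := bar (yp M) * yp M with hN
  set z : QuadraticAlgebra (CAlg m) N 0 := ⟨xp M, 1⟩ with hz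
  have key : ∀ n, xp (M ^ n) = (z ^ n).re ∧ yp (M ^ n) = yp M * (z ^ n).im := by
    intro n
    induction n with
    | zero => simp [xp_one, yp_one, pow_zero, QuadraticAlgebra.re_one, QuadraticAlgebra.im_one]
    | succ n ih =>
      rw [pow_succ' M, pow_succ' z, Cfsg.Lib.DihB.xp_mul, h.yp_mul, ih.1, ih.2]
      simp only [QuadraticAlgebra.re_mul, QuadraticAlgebra.im_mul, hz]
      constructor <;> (rw [hN]; ring)
  rw [(key n).1]
  set ω : QuadraticAlgebra (CAlg m) N 0 := ⟨0, 1⟩ with hω
  have hω2 : ω * ω = algebraMap (CAlg m) (QuadraticAlgebra (CAlg m) N 0) N := by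
    ext <;> simp [hω]
  have hsplit : z = ω + algebraMap (CAlg m) (QuadraticAlgebra (CAlg m) N 0) (xp M) := by
    ext <;> simp [hz, hω]
  rw [hsplit, add_pow]
  have hre : ∀ (s : Finset ℕ) (f : ℕ → QuadraticAlgebra (CAlg m) N 0), (∑ j ∈ s, f j).re = ∑ j ∈ s, (f j).re := by
    intro s f
    induction s using Finset.induction_on with
    | empty => simp
    | insert a s ha ih => simp [Finset.sum_insert ha, ih]
  rw [hre]
  refine sum_congr rfl fun j _ => ?_
  have hC : (algebraMap (CAlg m) (QuadraticAlgebra (CAlg m) N 0) (xp M)) ^ (n - j) = algebraMap (CAlg m) (QuadraticAlgebra (CAlg m) N 0) ((xp M) ^ (n - j)) :=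
    (map_pow _ _ _).symm
  rcases Nat.even_or_odd' j with ⟨i, rfl | rfl⟩
  · have : ω ^ (2 * i) = algebraMap (CAlg m) (QuadraticAlgebra (CAlg m) N 0) (N ^ i) := by
      rw [pow_mul, pow_two, hω2, ← map_pow]
    rw [if_pos (even_two_mul i), this, hC, Nat.mul_div_cancel_left i two_pos]
    simp [-map_pow]
    ring
  · have : ω ^ (2 * i + 1) = algebraMap (CAlg m) (QuadraticAlgebra (CAlg m) N 0) (N ^ i) * ω := by
      rw [pow_succ, pow_mul, pow_two, hω2, ← map_pow]
    rw [if_neg (by simp), this, hC]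
    simp [-map_pow, hω]

end Cfsg.Lib.DihB
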