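import Mathlib
import Cfsg.Agent.Lib.Perm.DihedralBGroup.Dihedral

/-! Congruences for powers in the group ring of a cyclic group. -/

set_option autoImplicit false

namespace Cfsg.Lib.DihB

open DihedralGroup Finset

variable {m : ℕ} [NeZero m]

theorem dvd_iff_coeff (q : ℕ) (X : CAlg m) : (q : CAlg m) ∣ X ↔ ∀ c, (q : ℤ) ∣ X.coeff c := by
  have h : ∀ (Z : CAlg m) c, ((q : CAlg m) * Z).coeff c = (q : ℤ) * Z.coeff c := fun Z c => by
    rw [← nsmul_eq_mul, AddMonoidAlgebra.coeff_smul, Finsupp.smul_apply, nsmul_eq_mul]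
  constructor
  · rintro ⟨Z, rfl⟩ c
    rw [h]
    exact dvd_mul_right _ _
  · intro hX
    choose f hf using hX
    exact ⟨mkC f, extC fun c => by rw [h, coeff_mkC, hf]⟩

/-- Transport of coefficients along multiplication by `n`. -/
noncomputable def dil (n : ℕ) (X : CAlg m) : CAlg m :=
  mkC fun c => ∑ x ∈ univ.filter (fun x : ZMod m => (n : ZMod m) * x = c), X.coeff x

@[simp] theorem coeff_dil (n : ℕ) (X : CAlg m) (c : ZMod m) :
    (dil n X).coeff c = ∑ x ∈ univ.filter (fun x : ZMod m => (n : ZMod m) * x = c), X.coeff x := coeff_mkC _ _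

theorem dil_add (n : ℕ) (a b : CAlg m) : dil n (a + b) = dil n a + dil n b :=
  extC fun c => by simp [sum_add_distrib]

theorem dil_single (n : ℕ) (x : ZMod m) (r : ℤ) :
    dil n (AddMonoidAlgebra.single x r) = AddMonoidAlgebra.single ((n : ZMod m) * x) r := by
  refine extC fun c => ?_
  simp [AddMonoidAlgebra.coeff_single, Finsupp.single_apply, sum_ite_eq, mem_filter]

/-- Frobenius: `X ^ (q ^ l)` is the dilation of `X` modulo `q`. -/
theorem frob {q : ℕ} (hq : q.Prime) (l : ℕ) (X : CAlg m) : (q : CAlg m) ∣ X ^ (q ^ l) - dil (q ^ l) X := by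
  haveI := Fact.mk hq
  have hz : ∀ c, (0 : CAlg m).coeff c = 0 := fun c => by simp
  induction X using AddMonoidAlgebra.induction_linear with
  | zero => rw [zero_pow (pow_ne_zero _ hq.ne_zero)]; simp [extC (X := dil (q ^ l) (0 : CAlg m)) (X' := 0) (by simp)]
  | add a b ha hb =>
    obtain ⟨r, hr⟩ := exists_add_pow_prime_pow_eq hq a b l
    rw [hr, dil_add]
    have : a ^ q ^ l + b ^ q ^ l + ↑q * a * b * r - (dil (q ^ l) a + dil (q ^ l) b) =
        (a ^ q ^ l - dil (q ^ l) a) + (b ^ q ^ l - dil (q ^ l) b) + ↑q * (a * b * r) := by ring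
    rw [this]
    exact dvd_add (dvd_add ha hb) (dvd_mul_right _ _)
  | single x r =>
    rw [AddMonoidAlgebra.single_pow, dil_single, nsmul_eq_mul, Nat.cast_pow, ← AddMonoidAlgebra.single_sub,
      dvd_iff_coeff]
    intro c
    rw [AddMonoidAlgebra.coeff_single, Finsupp.single_apply]
    split
    · rw [← ZMod.intCast_zmod_eq_zero_iff_dvd, Int.cast_sub, Int.cast_pow, ZMod.pow_card_pow, sub_self]
    · exact dvd_zero _

/-- All but the two extreme binomial coefficients of a prime power are divisible by the prime. -/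
theorem xp_pow_mod {G : Subgroup (Equiv.Perm (DihedralGroup m))} (hprim : Prim G) {M : DAlg m} (h : IsB G M)
    {q : ℕ} (hq : q.Prime) (hq2 : q ≠ 2) (l : ℕ) :
    (q : CAlg m) ∣ xp (M ^ q ^ l) - dil (q ^ l) (xp M) := by
  have hodd : ¬ Even (q ^ l) := by
    rw [Nat.not_even_iff_odd]
    exact (hq.odd_of_ne_two hq2).pow
  have h1 : (q : CAlg m) ∣ xp (M ^ q ^ l) - (xp M) ^ q ^ l := by
    rw [xp_pow hprim h]
    rw [← sum_erase_add _ _ (show 0 ∈ range (q ^ l + 1) by simp)]
    simp only [Even.zero, if_true, Nat.choose_zero_right, Nat.cast_one, tsub_zero, one_mul, Nat.zero_div, pow_zero,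
      mul_one, add_sub_cancel_right]
    refine dvd_sum fun j hj => ?_
    rw [mem_erase, mem_range] at hj
    split
    · rename_i he
      have hjl : j ≠ q ^ l := fun e => hodd (e ▸ he)
      exact dvd_mul_of_dvd_left (dvd_mul_of_dvd_left (Nat.cast_dvd_cast (hq.dvd_choose_pow hj.1 hjl)) _) _
    · exact dvd_zero _
  have := dvd_add h1 (frob hq l (xp M))
  rwa [sub_add_sub_cancel] at this

section sup

variable (p k m' : ℕ)

/-- Off the `p'`-part all coefficients are divisible by `p ^ i`. -/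
def Sup (i : ℕ) (X : CAlg m) : Prop := ∀ c : ZMod m, (m' : ZMod m) * c ≠ 0 → ((p ^ i : ℕ) : ℤ) ∣ X.coeff c

variable {p k m'}

theorem Sup.add {i : ℕ} {a b : CAlg m} (ha : Sup p m' i a) (hb : Sup p m' i b) : Sup p m' i (a + b) := fun c hc => by
  simpa using dvd_add (ha c hc) (hb c hc)

theorem Sup.sub {i : ℕ} {a b : CAlg m} (ha : Sup p m' i a) (hb : Sup p m' i b) : Sup p m' i (a - b) := fun c hc => by
  simpa using dvd_sub (ha c hc) (hb c hc)

theorem Sup.mono {i j : ℕ} (h : j ≤ i) {a : CAlg m} (ha : Sup p m' i a) : Sup p m' j a := fun c hc =>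
  (Int.natCast_dvd_natCast.2 (pow_dvd_pow p h)).trans (ha c hc)

theorem sup_zero {i : ℕ} : Sup p m' i (0 : CAlg m) := fun c _ => by simp

theorem sup_of_dvd {i : ℕ} {a : CAlg m} (h : ((p ^ i : ℕ) : CAlg m) ∣ a) : Sup p m' i a :=
  fun c _ => (dvd_iff_coeff _ _).1 h c

theorem Sup.mul {i : ℕ} {a b : CAlg m} (ha : Sup p m' i a) (hb : Sup p m' i b) : Sup p m' i (a * b) := by
  intro c hc
  rw [mulC_apply]
  refine dvd_sum fun x _ => ?_
  by_cases hx : (m' : ZMod m) * x = 0
  · exact dvd_mul_of_dvd_right (hb _ (by rwa [mul_sub, hx, sub_zero])) _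
  · exact dvd_mul_of_dvd_left (ha x hx) _

theorem sup_one {i : ℕ} : Sup p m' i (1 : CAlg m) := by
  intro c hc
  rw [AddMonoidAlgebra.one_def, AddMonoidAlgebra.coeff_single, Finsupp.single_apply,
    if_neg (fun h => hc (by rw [← h, mul_zero]))]
  exact dvd_zero _

theorem Sup.pow {i : ℕ} {a : CAlg m} (ha : Sup p m' i a) : ∀ n, Sup p m' i (a ^ n)
  | 0 => by rw [pow_zero]; exact sup_one
  | n + 1 => by rw [pow_succ]; exact (ha.pow n).mul ha

theorem sup_sum {i : ℕ} {α : Type*} (s : Finset α) {f : α → CAlg m} (h : ∀ x ∈ s, Sup p m' i (f x)) :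
    Sup p m' i (∑ x ∈ s, f x) :=
  Finset.sum_induction f (Sup p m' i) (fun _ _ => Sup.add) sup_zero h

theorem sup_pow_of_dvd (hp : p.Prime) (hm : m = p ^ k * m') {e n : ℕ} (hn : p ^ (k + e) ∣ n) (X : CAlg m) :
    Sup p m' (e + 1) (X ^ n) := by
  obtain ⟨t, rfl⟩ := hn
  rw [pow_mul]
  refine Sup.pow ?_ t
  set X0 := dil (p ^ k) X with hX0
  have h0 : Sup p m' (e + 1) X0 := by
    intro c hc
    rw [hX0, coeff_dil, Finset.sum_eq_zero]
    · exact dvd_zero _
    · intro x hx
      rw [mem_filter] at hx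
      exfalso
      refine hc ?_
      rw [← hx.2, ← mul_assoc, ← Nat.cast_mul, mul_comm m', ← hm, ZMod.natCast_self, zero_mul]
  have h1 := dvd_sub_pow_of_dvd_sub (frob hp k X) e
  rw [← Nat.cast_pow p (e + 1)] at h1
  have h2 := (sup_of_dvd (m' := m') h1).add (h0.pow (p ^ e))
  rwa [sub_add_cancel, ← pow_mul, ← pow_add] at h2

/-- The rotation part of a high `p`-power lies in the `p'`-part modulo `p ^ i`. -/
theorem sup_xp_pow {G : Subgroup (Equiv.Perm (DihedralGroup m))} (hprim : Prim G) (hp : p.Prime) (hp2 : p ≠ 2)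
    (hm : m = p ^ k * m') {i L : ℕ} (hL : k + 2 * i ≤ L) {M : DAlg m} (h : IsB G M) :
    Sup p m' i (xp (M ^ p ^ L)) := by
  rw [xp_pow hprim h]
  refine sup_sum _ fun j hj => ?_
  rw [mem_range] at hj
  split
  swap
  · exact sup_zero
  rename_i he
  by_cases hC : p ^ i ∣ (p ^ L).choose j
  · exact sup_of_dvd (dvd_mul_of_dvd_left (dvd_mul_of_dvd_left (Nat.cast_dvd_cast hC) _) _)
  have hj' : p ^ (k + i) ∣ j := by
    have h1 : p ^ L ∣ j * (p ^ L).choose j := by
      rcases Nat.eq_zero_or_pos j with h0 | h0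
      · simp [h0]
      obtain ⟨j', rfl⟩ : ∃ j', j = j' + 1 := ⟨j - 1, by omega⟩
      obtain ⟨n', hn'⟩ : ∃ n', p ^ L = n' + 1 := ⟨p ^ L - 1, by have := pow_pos hp.pos L; omega⟩
      rw [hn', mul_comm, ← Nat.add_one_mul_choose_eq]
      exact dvd_mul_right _ _
    obtain ⟨v, u, hu, hCu⟩ := Nat.exists_eq_pow_mul_and_not_dvd
      (Nat.pos_iff_ne_zero.1 (Nat.choose_pos (show j ≤ p ^ L by omega))) p hp.ne_one
    have hv : v < i := by
      by_contra hv
      exact hC (hCu ▸ dvd_mul_of_dvd_left (pow_dvd_pow p (by omega)) _)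
    rw [hCu] at h1
    have h2 : p ^ (L - v) ∣ j * u := by
      have : p ^ v * p ^ (L - v) ∣ p ^ v * (j * u) := by
        rw [← pow_add, Nat.add_sub_cancel' (by omega)]
        exact h1.trans (dvd_of_eq (by ring))
      exact (Nat.mul_dvd_mul_iff_left (pow_pos hp.pos v)).1 this
    exact (pow_dvd_pow p (by omega)).trans (((hp.coprime_iff_not_dvd.2 hu).pow_left _).dvd_of_dvd_mul_right h2)
  have hs : ∀ n, p ^ (k + i) ∣ n → ∀ X : CAlg m, Sup p m' i (X ^ n) := fun n hn X =>
    (sup_pow_of_dvd hp hm hn X).mono (Nat.le_succ i)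
  have hhalf : p ^ (k + i) ∣ j / 2 := by
    obtain ⟨t, rfl⟩ := he
    rw [show (t + t) / 2 = t by omega]
    rw [← two_mul] at hj'
    exact (((Nat.coprime_primes hp Nat.prime_two).2 hp2).pow_left _).dvd_of_dvd_mul_left hj'
  have hsub : p ^ (k + i) ∣ p ^ L - j := Nat.dvd_sub (pow_dvd_pow p (by omega)) hj'
  refine (Sup.mul ?_ (hs _ hsub _)).mul (hs _ hhalf _)
  intro c hc
  rw [AddMonoidAlgebra.natCast_def, AddMonoidAlgebra.coeff_single, Finsupp.single_apply,
    if_neg (fun h => hc (by rw [← h, mul_zero]))]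
  exact dvd_zero _

end sup

end Cfsg.Lib.DihB
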