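import Mathlib
import Cfsg.Agent.Lib.Perm.DihedralBGroup.Congr

/-! Every class meets the rotations outside the `p'`-part; rational rotation parts are invariant under the subgroup
of order `p`. -/

set_option autoImplicit false

namespace Cfsg.Lib.DihB

open DihedralGroup Finset

variable {m : ℕ} [NeZero m] {G : Subgroup (Equiv.Perm (DihedralGroup m))}

/-- The class indicator. -/
noncomputable def ind (G : Subgroup (Equiv.Perm (DihedralGroup m))) (d : DihedralGroup m) : DAlg m :=
  open Classical in mk fun z => if z ∈ cls G d then 1 else 0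

variable (hL : ∀ t, Equiv.mulLeft t ∈ G)

include hL in
theorem isB_ind (d : DihedralGroup m) : IsB G (ind G d) := by
  classical
  refine isB_mk (fun g hg u v => ?_) fun z => ?_
  · exact if_congr (Iff.of_eq (inv_cls hL d g hg u v)) rfl rfl
  · exact if_congr ⟨fun h => by simpa using inv_mem_cls h, inv_mem_cls⟩ rfl rfl

theorem ind_apply (d z : DihedralGroup m) [Decidable (z ∈ cls G d)] :
    (ind G d).coeff z = if z ∈ cls G d then 1 else 0 := by
  simp [ind]

theorem ind_self (d : DihedralGroup m) : (ind G d).coeff d = 1 := by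
  classical
  rw [ind_apply, if_pos (mem_cls_self d)]

theorem ind_nonneg (d z : DihedralGroup m) : 0 ≤ (ind G d).coeff z := by
  classical
  rw [ind_apply]; split <;> simp

include hL in
theorem cls_eq {d z : DihedralGroup m} (h : z ∈ cls G d) : cls G z = cls G d := by
  classical
  have h1 : ∀ {a b : DihedralGroup m}, b ∈ cls G a → a ∈ cls G b := fun {a b} hab => by
    have := (isB_ind hL b).apply_eq hab
    rw [ind_apply, ind_apply, if_pos (mem_cls_self b)] at this
    by_contra hn
    rw [if_neg hn] at this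
    exact one_ne_zero this
  have h2 : ∀ {a b c : DihedralGroup m}, b ∈ cls G a → c ∈ cls G b → c ∈ cls G a := fun {a b c} hab hbc => by
    have := (isB_ind hL a).apply_eq hbc
    rw [ind_apply, ind_apply, if_pos hab] at this
    by_contra hn
    rw [if_neg hn] at this
    exact zero_ne_one this
  exact Set.ext fun w => ⟨fun hw => h2 h hw, fun hw => h2 (h1 h) hw⟩

include hL in
/-- Every class meets the rotations. -/
theorem meets0 (hm2 : 2 ≤ m) (hprim : Prim G) {d : DihedralGroup m} (hd : d ≠ 1) :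
    ∃ c, r c ∈ cls G d := by
  classical
  by_contra hno
  push Not at hno
  set T := ind G d with hT
  have hB : IsB G T := isB_ind hL d
  have hx : xp T = 0 := extC fun c => by simp [hT, ind_apply, hno c]
  have hy : yp (T * T) = 0 := by rw [hB.yp_mul, hx, zero_mul, mul_zero, add_zero]
  have hsub : {z | (T * T).coeff z ≠ 0} ⊆ (rot m : Set (DihedralGroup m)) := by
    rintro (c | c) hz
    · exact ⟨c, rfl⟩
    · refine absurd ?_ hz
      rw [← coeff_yp, hy]
      simp
  have huniq : ∀ z ∈ cls G d, z = d := by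
    intro z hz
    have hpos : (T * T).coeff (d⁻¹ * z) ≠ 0 := by
      rw [mul_apply']
      refine ne_of_gt (sum_pos' (fun w _ => mul_nonneg (ind_nonneg d w) (ind_nonneg d _)) ⟨d⁻¹, mem_univ _, ?_⟩)
      rw [hT, inv_inv, mul_inv_cancel_left, ind_apply, ind_apply, if_pos hz, if_pos (inv_mem_cls (mem_cls_self d))]
      norm_num
    have := no_rot_set hprim (S := {z | (T * T).coeff z ≠ 0})
      (fun g hg u v => by
        have := (hB.mul hprim hB).1 g hg u v
        simp only [Set.mem_setOf_eq] at this ⊢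
        rw [this]) hsub hpos
    exact (inv_mul_eq_one.1 this).symm
  have hsing : Inv G (fun z => z ∈ ({d} : Set (DihedralGroup m))) := by
    have he : cls G d = {d} := Set.ext fun z => ⟨fun h => huniq z h, fun h => by rw [Set.mem_singleton_iff.1 h]; exact mem_cls_self d⟩
    exact he ▸ inv_cls hL d
  rcases hprim _ (inv_closure hsing) with h | h
  · exact hd (by simpa using (h ▸ Subgroup.subset_closure (k := ({d} : Set (DihedralGroup m))) rfl : d ∈ (⊥ : Subgroup (DihedralGroup m))))
  · rw [← Subgroup.zpowers_eq_closure] at h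
    rcases d with c | c
    · exact hno c (mem_cls_self _)
    have h1 := congrArg (fun K : Subgroup (DihedralGroup m) => Nat.card K) h
    simp only [Nat.card_zpowers, Subgroup.card_top, DihedralGroup.nat_card, orderOf_sr] at h1
    omega

variable {p k m' : ℕ} (hp : p.Prime) (hm : m = p ^ k * m') (hcop : m'.Coprime p) (hk : k ≠ 0)
  (hp2 : p ≠ 2 ∨ m' = 1) (hprim : Prim G)

include hp hm hk in
theorem two_le : 2 ≤ m := by
  have h1 : 0 < m' := Nat.pos_of_ne_zero fun h => NeZero.ne m (by rw [hm, h, mul_zero])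
  have h2 : p ≤ p ^ k := Nat.le_self_pow hk p
  calc 2 ≤ p ^ k := hp.two_le.trans h2
    _ ≤ m := by rw [hm]; exact Nat.le_mul_of_pos_right _ h1

include hL hp hm hk hprim in
theorem cdet {q : ℕ} {M : DAlg m} (hM : IsB G M) (h : ∀ c, (q : ℤ) ∣ M.coeff (r c)) (d : DihedralGroup m) :
    (q : ℤ) ∣ M.coeff d := by
  by_cases hd : d = 1
  · rw [hd, ← r_zero]; exact h 0
  · obtain ⟨c, hc⟩ := meets0 hL (two_le hp hm hk) hprim hd
    rw [← hM.apply_eq hc]
    exact h c

include hp hm hcop in
theorem eq_of_p'_part {l : ℕ} (hl : p ^ l ≡ 1 [MOD m']) {x : ZMod m} (hx : (m' : ZMod m) * x = 0) :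
    ((p ^ l : ℕ) : ZMod m) * x = x := by
  obtain ⟨t, ht⟩ := (Nat.modEq_iff_dvd' (Nat.one_le_pow _ _ hp.pos)).1 hl.symm
  rw [show p ^ l = 1 + m' * t by have := Nat.one_le_pow l _ hp.pos; omega, Nat.cast_add, Nat.cast_one, Nat.cast_mul,
    add_mul, one_mul, mul_right_comm, hx, zero_mul, add_zero]

/-- Elements whose rotation part is in the `p'`-part modulo `p ^ i`. -/
def HB (G : Subgroup (Equiv.Perm (DihedralGroup m))) (p m' i : ℕ) (M : DAlg m) : Prop :=
  IsB G M ∧ Sup p m' i (xp M)

include hL hp hm hcop hk hprim in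
theorem pow_congr (hpo : p ≠ 2) {L : ℕ} (hL1 : p ^ L ≡ 1 [MOD m']) (hkL : k ≤ L) {M : DAlg m}
    (hM : HB G p m' 1 M) (d : DihedralGroup m) : (p : ℤ) ∣ (M ^ p ^ L - M).coeff d := by
  refine cdet hL hp hm hk hprim ((hM.1.pow hprim _).sub hM.1) (fun c => ?_) d
  have h1 := (dvd_iff_coeff p _).1 (xp_pow_mod hprim hM.1 hp hpo L) c
  rw [AddMonoidAlgebra.coeff_sub, Finsupp.sub_apply, coeff_xp, coeff_dil] at h1
  rw [MonoidAlgebra.coeff_sub, Finsupp.sub_apply]
  have hX : ∀ x : ZMod m, (m' : ZMod m) * x ≠ 0 → (p : ℤ) ∣ M.coeff (r x) := fun x hx => by simpa using hM.2 x hx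
  have h2 : (p : ℤ) ∣ (∑ x ∈ univ.filter (fun x : ZMod m => ((p ^ L : ℕ) : ZMod m) * x = c), (xp M).coeff x) - M.coeff (r c) := by
    classical
    by_cases hc : (m' : ZMod m) * c = 0
    · have hcmem : c ∈ univ.filter (fun x : ZMod m => ((p ^ L : ℕ) : ZMod m) * x = c) := by
        simp only [mem_filter, mem_univ, true_and]
        exact eq_of_p'_part hp hm hcop hL1 hc
      rw [← add_sum_erase _ _ hcmem, coeff_xp, add_sub_cancel_left]
      refine dvd_sum fun x hx => ?_
      rw [mem_erase, mem_filter] at hx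
      rw [coeff_xp]
      refine hX x fun hx0 => hx.1 ?_
      rw [← eq_of_p'_part hp hm hcop hL1 hx0]
      exact hx.2.2
    · rw [Finset.sum_eq_zero, zero_sub]
      · exact dvd_neg.2 (hX c hc)
      · intro x hx
        rw [mem_filter] at hx
        exfalso
        refine hc ?_
        rw [← hx.2, ← mul_assoc, ← Nat.cast_mul, mul_comm m',
          show p ^ L = p ^ (L - k) * p ^ k by rw [← pow_add, Nat.sub_add_cancel hkL],
          mul_assoc (p ^ (L - k)), ← hm, Nat.cast_mul, ZMod.natCast_self, mul_zero, zero_mul]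
  have := dvd_add h1 h2
  rwa [sub_add_sub_cancel] at this

include hL hp hm hcop hk hprim in
theorem exists_repr (hpo : p ≠ 2) {i L : ℕ} (hL1 : p ^ L ≡ 1 [MOD m']) (hkL : k + 2 * i ≤ L) :
    ∀ j ≤ i, ∀ M, HB G p m' i M → ∃ Z ∈ AddSubgroup.closure {N | ∃ U, IsB G U ∧ N = U ^ p ^ L},
      ∀ d, ((p ^ j : ℕ) : ℤ) ∣ (M - Z).coeff d := by
  set S := AddSubgroup.closure {N : DAlg m | ∃ U, IsB G U ∧ N = U ^ p ^ L} with hS
  have hmem : ∀ Z ∈ S, HB G p m' i Z := by
    intro Z hZ
    induction hZ using AddSubgroup.closure_induction with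
    | mem N hN =>
      obtain ⟨U, hU, rfl⟩ := hN
      exact ⟨hU.pow hprim _, sup_xp_pow hprim hp hpo hm hkL hU⟩
    | zero => exact ⟨isB_zero, fun c _ => by simp⟩
    | add a b _ _ ha hb =>
      refine ⟨ha.1.add hb.1, ?_⟩
      rw [show xp (a + b) = xp a + xp b from extC fun c => by simp]
      exact ha.2.add hb.2
    | neg a _ ha =>
      refine ⟨by simpa using ha.1.smul (-1 : ℤ), ?_⟩
      rw [show xp (-a) = 0 - xp a from extC fun c => by simp]
      exact sup_zero.sub ha.2
  intro j
  induction j with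
  | zero => exact fun _ M _ => ⟨0, zero_mem _, fun d => by simp⟩
  | succ j ih =>
    intro hj M hM
    obtain ⟨Z, hZ, hdiv⟩ := ih (by omega) M hM
    choose f hf using hdiv
    have hne : ((p ^ j : ℕ) : ℤ) ≠ 0 := by simp [hp.ne_zero]
    set N : DAlg m := mk f with hN
    have hMZ := hM.1.sub (hmem Z hZ).1
    have hNB : IsB G N := by
      refine isB_mk (fun g hg u v => mul_left_cancel₀ hne ?_) fun d => mul_left_cancel₀ hne ?_
      · rw [← hf, ← hf]; exact hMZ.1 g hg u v
      · rw [← hf, ← hf]; exact hMZ.2 d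
    have hN1 : HB G p m' 1 N := by
      refine ⟨hNB, fun c hc => ?_⟩
      have h1 : ((p ^ i : ℕ) : ℤ) ∣ (M - Z).coeff (r c) := by
        have := (hM.2.sub (hmem Z hZ).2) c hc
        simpa using this
      rw [hf, show i = j + (i - j) by omega, pow_add, Nat.cast_mul] at h1
      rw [coeff_xp, hN, coeff_mk]
      exact (Int.natCast_dvd_natCast.2 (pow_dvd_pow p (show 1 ≤ i - j by omega))).trans
        ((mul_dvd_mul_iff_left hne).1 h1)
    refine ⟨Z + ((p ^ j : ℕ) : ℤ) • N ^ p ^ L,
      add_mem hZ (zsmul_mem (AddSubgroup.subset_closure (show N ^ p ^ L ∈ {N : DAlg m | ∃ U, IsB G U ∧ N = U ^ p ^ L} from ⟨N, hNB, rfl⟩)) _), fun d => ?_⟩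
    have h2 := pow_congr hL hp hm hcop hk hprim hpo hL1 (by omega) hN1 d
    rw [MonoidAlgebra.coeff_sub, Finsupp.sub_apply, hN, coeff_mk] at h2
    have h3 := hf d
    rw [MonoidAlgebra.coeff_sub, Finsupp.sub_apply] at h3 ⊢
    rw [MonoidAlgebra.coeff_add, Finsupp.add_apply, MonoidAlgebra.coeff_smul, Finsupp.smul_apply, smul_eq_mul,
      ← sub_sub, h3, ← mul_sub, pow_succ, Nat.cast_mul]
    exact mul_dvd_mul_left _ (dvd_sub_comm.1 h2)

include hL hp hm hcop hk hprim in
/-- The elements with rotation part in the `p'`-part form a ring. -/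
theorem hb_mul (hpo : p ≠ 2) {i : ℕ} {A B : DAlg m} (hA : HB G p m' i A) (hB : HB G p m' i B) :
    HB G p m' i (A * B) := by
  refine ⟨hA.1.mul hprim hB.1, ?_⟩
  obtain ⟨L, hkL, hL1⟩ : ∃ L, k + 2 * i ≤ L ∧ p ^ L ≡ 1 [MOD m'] := by
    have hm'0 : m' ≠ 0 := fun h => NeZero.ne m (by rw [hm, h, mul_zero])
    refine ⟨m'.totient * (k + 2 * i), Nat.le_mul_of_pos_left _ (Nat.totient_pos.2 (Nat.pos_of_ne_zero hm'0)), ?_⟩
    rw [pow_mul]
    simpa using (Nat.ModEq.pow_totient hcop.symm).pow (k + 2 * i)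
  set S := AddSubgroup.closure {N : DAlg m | ∃ U, IsB G U ∧ N = U ^ p ^ L} with hS
  obtain ⟨Za, hZa, ha⟩ := exists_repr hL hp hm hcop hk hprim hpo hL1 hkL i le_rfl A hA
  obtain ⟨Zb, hZb, hb⟩ := exists_repr hL hp hm hcop hk hprim hpo hL1 hkL i le_rfl B hB
  have hmul : Sup p m' i (xp (Za * Zb)) := by
    clear ha hb
    induction hZa, hZb using AddSubgroup.closure_induction₂ with
    | mem x y hx hy =>
      obtain ⟨U, hU, rfl⟩ := hx
      obtain ⟨V, hV, rfl⟩ := hy
      rw [← (show Commute U V from hU.comm hprim hV).mul_pow]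
      exact sup_xp_pow hprim hp hpo hm hkL (hU.mul hprim hV)
    | zero_left x _ => rw [zero_mul]; exact fun c _ => by simp
    | zero_right x _ => rw [mul_zero]; exact fun c _ => by simp
    | add_left x y z _ _ _ h1 h2 =>
      rw [add_mul, show xp (x * z + y * z) = xp (x * z) + xp (y * z) from extC fun c => by simp]
      exact h1.add h2
    | add_right x y z _ _ _ h1 h2 =>
      rw [mul_add, show ∀ a b : DAlg m, xp (a + b) = xp a + xp b from fun a b => extC fun c => by simp]
      exact h1.add h2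
    | neg_left x y _ _ h1 =>
      rw [neg_mul, show xp (-(x * y)) = 0 - xp (x * y) from extC fun c => by simp]
      exact sup_zero.sub h1
    | neg_right x y _ _ h1 =>
      rw [mul_neg, show xp (-(x * y)) = 0 - xp (x * y) from extC fun c => by simp]
      exact sup_zero.sub h1
  intro c hc
  have h1 := hmul c hc
  rw [coeff_xp] at h1 ⊢
  have h2 : ((p ^ i : ℕ) : ℤ) ∣ (A * B).coeff (r c) - (Za * Zb).coeff (r c) := by
    rw [mul_apply', mul_apply', ← sum_sub_distrib]
    refine dvd_sum fun w _ => ?_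
    have h3 := ha w
    have h4 := hb (w⁻¹ * r c)
    rw [MonoidAlgebra.coeff_sub, Finsupp.sub_apply] at h3 h4
    rw [show A.coeff w * B.coeff (w⁻¹ * r c) - Za.coeff w * Zb.coeff (w⁻¹ * r c) =
      (A.coeff w - Za.coeff w) * B.coeff (w⁻¹ * r c) + Za.coeff w * (B.coeff (w⁻¹ * r c) - Zb.coeff (w⁻¹ * r c)) by ring]
    exact dvd_add (dvd_mul_of_dvd_left h3 _) (dvd_mul_of_dvd_right h4 _)
  simpa using dvd_add h2 h1

include hL hp hm hcop hk hp2 hprim in
/-- Every class meets the rotations outside the `p'`-part. -/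
theorem meetH {d : DihedralGroup m} (hd : d ≠ 1) : ∃ c, (m' : ZMod m) * c ≠ 0 ∧ r c ∈ cls G d := by
  classical
  rcases hp2 with hpo | hm1
  swap
  · obtain ⟨c, hc⟩ := meets0 hL (two_le hp hm hk) hprim hd
    refine ⟨c, ?_, hc⟩
    rw [hm1, Nat.cast_one, one_mul]
    rintro rfl
    rw [r_zero] at hc
    exact one_notMem_cls hd hc
  set S : Set (DihedralGroup m) := {z | ∀ c, r c ∈ cls G z → (m' : ZMod m) * c = 0} with hS
  have hone : (1 : DihedralGroup m) ∈ S := by
    intro c hc
    have : r c = (1 : DihedralGroup m) := by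
      by_contra hne
      have h1 := cls_eq hL hc
      exact one_notMem_cls hne (h1 ▸ mem_cls_self 1)
    rw [r_injective (this.trans r_zero.symm), mul_zero]
  have hHB : ∀ z ∈ S, ∀ i, HB G p m' i (ind G z) := fun z hz i =>
    ⟨isB_ind hL z, fun c hc => by rw [coeff_xp, ind_apply, if_neg fun h => hc (hz c h)]; exact dvd_zero _⟩
  have hmul : ∀ x ∈ S, ∀ y ∈ S, x * y ∈ S := by
    intro x hx y hy c hc
    by_contra hcH
    have hsup := fun i => (hb_mul hL hp hm hcop hk hprim hpo (hHB x hx i) (hHB y hy i)).2 c hcH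
    have hzero : (ind G x * ind G y).coeff (r c) = 0 := by
      refine Int.eq_zero_of_abs_lt_dvd (by simpa only [coeff_xp] using hsup ((ind G x * ind G y).coeff (r c)).natAbs) ?_
      rw [Int.abs_eq_natAbs]
      exact_mod_cast Nat.lt_pow_self hp.one_lt
    rw [((isB_ind hL x).mul hprim (isB_ind hL y)).apply_eq hc, mul_apply'] at hzero
    have hpos : 0 < ∑ w, (ind G x).coeff w * (ind G y).coeff (w⁻¹ * (x * y)) :=
      sum_pos' (fun w _ => mul_nonneg (ind_nonneg x w) (ind_nonneg y _)) ⟨x, mem_univ _, by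
        rw [inv_mul_cancel_left, ind_self, ind_self]; norm_num⟩
    omega
  let K : Subgroup (DihedralGroup m) :=
    { carrier := S
      one_mem' := hone
      mul_mem' := fun ha hb => hmul _ ha _ hb
      inv_mem' := fun {z} hz c hc => hz c (by rw [← cls_eq hL (inv_mem_cls (mem_cls_self z))]; exact hc) }
  have hK : Inv G (fun z => z ∈ K) := by
    intro g hg u v
    refine propext ?_
    have h1 : (g u)⁻¹ * g v ∈ cls G (u⁻¹ * v) := ⟨g, hg, u, v, rfl, Or.inl rfl⟩
    show (∀ c, r c ∈ cls G ((g u)⁻¹ * g v) → _) ↔ ∀ c, r c ∈ cls G (u⁻¹ * v) → _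
    rw [cls_eq hL h1]
  rcases hprim K hK with h | h
  · by_contra hno
    push Not at hno
    have hdS : d ∈ K := fun c hc => by
      by_contra hne
      exact hno c hne hc
    rw [h, Subgroup.mem_bot] at hdS
    exact hd hdS
  · exfalso
    have h1 : (r 1 : DihedralGroup m) ∈ K := h ▸ Subgroup.mem_top _
    have h2 := h1 1 (mem_cls_self _)
    rw [mul_one, ZMod.natCast_eq_zero_iff] at h2
    have h3 : 0 < m' := Nat.pos_of_ne_zero fun h0 => NeZero.ne m (by rw [hm, h0, mul_zero])
    have h4 := Nat.le_of_dvd h3 h2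
    have h5 : p ≤ p ^ k := Nat.le_self_pow hk p
    have := hp.two_le
    rw [hm] at h4
    nlinarith

end Cfsg.Lib.DihB
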