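import Mathlib
import Cfsg.Agent.Lib.Perm.DihedralBGroup.Classes

/-! Invariant kernels whose rotation part depends only on orders are invariant under the subgroup of order `p`. -/

set_option autoImplicit false

namespace Cfsg.Lib.DihB

open DihedralGroup Finset

variable {m : ℕ} [NeZero m]

theorem exists_unit_mul {x y : ZMod m} (h : addOrderOf x = addOrderOf y) : ∃ u : (ZMod m)ˣ, y = (u : ZMod m) * x := by
  classical
  set d := addOrderOf x with hd
  have hd0 : 0 < d := addOrderOf_pos x
  have hdm : d ∣ m := by simpa using addOrderOf_dvd_card (x := x)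
  set S := univ.filter (fun z : ZMod m => d • z = 0) with hS
  have hsub : (range d).image (fun j : ℕ => j • x) ⊆ S := fun z hz => by
    obtain ⟨j, _, rfl⟩ := mem_image.1 hz
    simp only [hS, mem_filter, mem_univ, true_and]
    rw [smul_comm, hd, addOrderOf_nsmul_eq_zero, smul_zero]
  have hcard : #S ≤ #((range d).image (fun j : ℕ => j • x)) := by
    rw [card_image_of_injOn, card_range]
    · exact IsAddCyclic.card_nsmul_eq_zero_le hd0
    · intro i hi j hj hij
      exact nsmul_injOn_Iio_addOrderOf (by simpa using hi) (by simpa using hj) hij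
  have hy : y ∈ S := by
    simp only [hS, mem_filter, mem_univ, true_and]
    rw [h, addOrderOf_nsmul_eq_zero]
  rw [← eq_of_subset_of_card_le hsub hcard, mem_image] at hy
  obtain ⟨j, -, rfl⟩ := hy
  have hco : j.Coprime d := by
    have h1 := Nat.div_eq_self.1 ((addOrderOf_nsmul (x := x) (n := j)).symm.trans h.symm)
    rcases h1 with h1 | h1
    · omega
    · exact Nat.coprime_comm.1 h1
  obtain ⟨u, hu⟩ := ZMod.unitsMap_surjective hdm (ZMod.unitOfCoprime j hco)
  refine ⟨u, ?_⟩
  have hu' : ((u : ZMod m).val : ZMod d) = (j : ZMod d) := by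
    have := congrArg (fun w : (ZMod d)ˣ => (w : ZMod d)) hu
    rw [ZMod.unitsMap_def, Units.coe_map, ZMod.coe_unitOfCoprime] at this
    rw [ZMod.natCast_val, ← this]
    rfl
  rw [← ZMod.natCast_zmod_val (u : ZMod m), ← nsmul_eq_mul]
  exact (nsmul_eq_nsmul_iff_modEq.2 ((ZMod.natCast_eq_natCast_iff _ _ _).1 hu')).symm

variable {p k m' : ℕ} (hp : p.Prime) (hm : m = p ^ k * m') (hcop : m'.Coprime p) (hk : k ≠ 0)

include hp hm hk in
theorem exists_order_p : ∃ a : ZMod m, addOrderOf a = p := by
  haveI := Fact.mk hp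
  have hdvd : p ∣ Fintype.card (ZMod m) := by
    rw [ZMod.card, hm]
    exact dvd_mul_of_dvd_left (dvd_pow_self p hk) _
  exact exists_prime_addOrderOf_dvd_card p hdvd

include hp hm hk in
theorem card_kernel : #(univ.filter (fun z : ZMod m => (p : ZMod m) * z = 0)) = p := by
  classical
  obtain ⟨a, ha⟩ := exists_order_p hp hm hk
  refine le_antisymm ?_ ?_
  · simp only [← nsmul_eq_mul]
    exact IsAddCyclic.card_nsmul_eq_zero_le hp.pos
  · calc p = #((range p).image (fun j : ℕ => j • a)) := by
          rw [card_image_of_injOn, card_range]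
          intro i hi j hj hij
          exact nsmul_injOn_Iio_addOrderOf (by simpa [ha] using hi) (by simpa [ha] using hj) hij
      _ ≤ _ := card_le_card fun z hz => by
          obtain ⟨j, _, rfl⟩ := mem_image.1 hz
          rw [mem_filter, ← nsmul_eq_mul, smul_comm, ← ha, addOrderOf_nsmul_eq_zero, smul_zero]
          exact ⟨mem_univ _, rfl⟩

include hp hm hk in
theorem card_fibre {x : ZMod m} :
    #(univ.filter (fun z : ZMod m => (p : ZMod m) * z = (p : ZMod m) * x)) = p := by
  classical
  conv_rhs => rw [← card_kernel hp hm hk]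
  refine card_bij' (fun z _ => z - x) (fun z _ => z + x) ?_ ?_ (fun z _ => by simp) (fun z _ => by simp)
  · intro z hz; simp only [mem_filter, mem_univ, true_and] at hz ⊢; rw [mul_sub, hz, sub_self]
  · intro z hz; simp only [mem_filter, mem_univ, true_and] at hz ⊢; rw [mul_add, hz, zero_add]

include hp hm hcop in
theorem addOrderOf_fibre {x : ZMod m} (hx : (m' : ZMod m) * ((p : ZMod m) * x) ≠ 0) :
    addOrderOf x = p * addOrderOf ((p : ZMod m) * x) := by
  rw [← nsmul_eq_mul] at hx ⊢
  have h1 : p ∣ addOrderOf (p • x) := by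
    by_contra hn
    refine hx ?_
    rw [← nsmul_eq_mul, ← addOrderOf_dvd_iff_nsmul_eq_zero]
    have h2 : addOrderOf (p • x) ∣ p ^ k * m' := hm ▸ by simpa using addOrderOf_dvd_card (x := p • x)
    exact (((hp.coprime_iff_not_dvd.2 hn).pow_left k).symm).dvd_of_dvd_mul_left h2
  have h3 : addOrderOf (p • x) ∣ addOrderOf x := by
    rw [addOrderOf_dvd_iff_nsmul_eq_zero, smul_comm, addOrderOf_nsmul_eq_zero, smul_zero]
  have h4 : p ∣ addOrderOf x := h1.trans h3
  rw [addOrderOf_nsmul' x hp.ne_zero, Nat.gcd_eq_right h4, Nat.mul_div_cancel' h4]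

variable {G : Subgroup (Equiv.Perm (DihedralGroup m))} (hL : ∀ t, Equiv.mulLeft t ∈ G)
  (hp2 : p ≠ 2 ∨ m' = 1) (hprim : Prim G)

include hL hp hm hcop hk hp2 hprim in
/-- A `0,1` kernel with rational rotation part is constant on cosets of the subgroup of order `p` outside it. -/
theorem rat_inv {M : DAlg m} (hM : IsB G M) (h01 : ∀ d, M.coeff d = 0 ∨ M.coeff d = 1)
    (hrat : ∀ x y : ZMod m, addOrderOf x = addOrderOf y → M.coeff (r x) = M.coeff (r y)) {x y : ZMod m}
    (hxy : (p : ZMod m) * x = (p : ZMod m) * y) (hx : (p : ZMod m) * x ≠ 0) : M.coeff (r x) = M.coeff (r y) := by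
  classical
  by_cases hc : (m' : ZMod m) * ((p : ZMod m) * x) = 0
  swap
  · refine hrat x y ?_
    have e2 := addOrderOf_fibre hp hm hcop (x := y) (by rw [← hxy]; exact hc)
    have e1 := addOrderOf_fibre hp hm hcop (x := x) hc
    rw [hxy] at e1
    exact e1.trans e2.symm
  rcases hp2 with hpo | hm1
  swap
  · rw [hm1, Nat.cast_one, one_mul] at hc
    exact absurd hc hx
  set c0 := (p : ZMod m) * x with hc0
  have hm'0 : m' ≠ 0 := fun h => NeZero.ne m (by rw [hm, h, mul_zero])
  set h := ((p ^ (m'.totient - 1) : ℕ) : ZMod m) * c0 with hh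
  have hmh : (m' : ZMod m) * h = 0 := by rw [hh, mul_left_comm, hc, mul_zero]
  have hph : (p : ZMod m) * h = c0 := by
    rw [hh, ← mul_assoc, ← Nat.cast_mul, ← pow_succ', Nat.sub_add_cancel (Nat.totient_pos.2 (Nat.pos_of_ne_zero hm'0))]
    exact eq_of_p'_part hp hm hcop (Nat.ModEq.pow_totient hcop.symm) hc
  set F := univ.filter (fun z : ZMod m => (p : ZMod m) * z = c0) with hF
  have hFh : h ∈ F := by simp [hF, hph]
  have hord : ∀ z ∈ F, z ≠ h → addOrderOf z = addOrderOf h * p := by
    intro z hz hne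
    simp only [hF, mem_filter, mem_univ, true_and] at hz
    haveI := Fact.mk hp
    have hw : addOrderOf (z - h) = p := addOrderOf_eq_prime
      (by rw [nsmul_eq_mul, mul_sub, hz, hph, sub_self]) (sub_ne_zero.2 hne)
    have hh' : addOrderOf h ∣ m' := by rw [addOrderOf_dvd_iff_nsmul_eq_zero, nsmul_eq_mul, hmh]
    have := (AddCommute.all h (z - h)).addOrderOf_add_eq_mul_addOrderOf_of_coprime
      (by rw [hw]; exact hcop.coprime_dvd_left hh')
    rwa [add_sub_cancel, hw] at this
  suffices hall : ∀ z ∈ F, M.coeff (r z) = M.coeff (r h) by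
    rw [hall x (by simp [hF, hc0]), hall y (by simp [hF, hxy])]
  intro z hz
  rcases eq_or_ne z h with rfl | hne
  · rfl
  have hc00 : (r c0 : DihedralGroup m) ≠ 1 := r_ne_one hx
  obtain ⟨c1, hc1, hcl⟩ := meetH hL hp hm hcop hk (Or.inl hpo) hprim hc00
  have hMp := hM.pow hprim (p ^ 1)
  have heq := hMp.apply_eq hcl
  have h0 := (dvd_iff_coeff p _).1 (xp_pow_mod hprim hM hp hpo 1) c0
  have h1 := (dvd_iff_coeff p _).1 (xp_pow_mod hprim hM hp hpo 1) c1
  simp only [AddMonoidAlgebra.coeff_sub, Finsupp.sub_apply, coeff_xp, coeff_dil] at h0 h1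
  rw [heq] at h1
  have hS1 : (p : ℤ) ∣ ∑ t ∈ univ.filter (fun t : ZMod m => ((p ^ 1 : ℕ) : ZMod m) * t = c1), M.coeff (r t) := by
    simp only [pow_one]
    rcases (univ.filter (fun t : ZMod m => (p : ZMod m) * t = c1)).eq_empty_or_nonempty with he | ⟨t0, ht0⟩
    · rw [he, sum_empty]; exact dvd_zero _
    · simp only [mem_filter, mem_univ, true_and] at ht0
      have hconst : ∀ t ∈ univ.filter (fun t : ZMod m => (p : ZMod m) * t = c1), M.coeff (r t) = M.coeff (r t0) := by
        intro t ht
        simp only [mem_filter, mem_univ, true_and] at ht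
        refine hrat t t0 ?_
        have e1 := addOrderOf_fibre hp hm hcop (x := t) (by rw [ht]; exact hc1)
        have e2 := addOrderOf_fibre hp hm hcop (x := t0) (by rw [ht0]; exact hc1)
        rw [ht] at e1
        rw [ht0] at e2
        exact e1.trans e2.symm
      rw [sum_congr rfl hconst, sum_const, ← ht0, card_fibre hp hm hk, nsmul_eq_mul]
      exact dvd_mul_right _ _
  have hS0 : (p : ℤ) ∣ ∑ t ∈ univ.filter (fun t : ZMod m => ((p ^ 1 : ℕ) : ZMod m) * t = c0), M.coeff (r t) := by
    have := dvd_add (dvd_sub h1 h0) hS1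
    rw [sub_sub_sub_cancel_left, sub_add_cancel] at this
    exact this
  simp only [pow_one] at hS0
  rw [← hF, ← add_sum_erase F _ hFh] at hS0
  have hconst : ∀ t ∈ F.erase h, M.coeff (r t) = M.coeff (r z) := fun t ht => by
    rw [mem_erase] at ht
    exact hrat t z (by rw [hord t ht.2 ht.1, hord z hz hne])
  have hFc : #F = p := by rw [hF, hc0]; exact card_fibre hp hm hk
  rw [sum_congr rfl hconst, sum_const, card_erase_of_mem hFh, hFc, nsmul_eq_mul, Nat.cast_sub hp.one_le, Nat.cast_one,
    sub_one_mul] at hS0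
  have h5 : (p : ℤ) ∣ M.coeff (r h) - M.coeff (r z) := by
    obtain ⟨q, hq⟩ := hS0
    exact ⟨q - M.coeff (r z), by linarith⟩
  refine (sub_eq_zero.1 (Int.eq_zero_of_abs_lt_dvd h5 ?_)).symm
  have := hp.two_le
  rcases h01 (r h) with e | e <;> rcases h01 (r z) with e' | e' <;> rw [e, e'] <;> norm_num <;> omega

end Cfsg.Lib.DihB
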