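import Mathlib
import Cfsg.Agent.Lib.Perm.DihedralBGroup.Rational

/-! The element of the Schur ring representing the sign character. -/

set_option autoImplicit false

namespace Cfsg.Lib.DihB

open DihedralGroup Finset

variable {m : ℕ} [NeZero m] {G : Subgroup (Equiv.Perm (DihedralGroup m))}

/-- The sign character on the group ring. -/
noncomputable def eps (M : DAlg m) : ℤ := (∑ c, (xp M).coeff c) - ∑ c, (yp M).coeff c

theorem sum_mul' (a b : CAlg m) : ∑ c, (a * b).coeff c = (∑ c, a.coeff c) * ∑ c, b.coeff c := by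
  simp only [mulC_apply]
  rw [sum_comm, sum_mul]
  refine sum_congr rfl fun i _ => ?_
  rw [← mul_sum]
  congr 1
  exact Fintype.sum_equiv (Equiv.subRight i) _ _ fun c => rfl

theorem sum_bar (a : CAlg m) : ∑ c, (bar a).coeff c = ∑ c, a.coeff c :=
  Fintype.sum_equiv (Equiv.neg _) _ _ fun c => by simp

theorem eps_mul (M M' : DAlg m) : eps (M * M') = eps M * eps M' := by
  simp only [eps, xp_mul, yp_mul, AddMonoidAlgebra.coeff_add, Finsupp.add_apply, sum_add_distrib, sum_mul', sum_bar]
  ring

/-- The sign of an element. -/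
def sgn : DihedralGroup m → ℤ
  | r _ => 1
  | sr _ => -1

theorem eps_eq (M : DAlg m) : eps M = ∑ d, sgn d * M.coeff d := by
  rw [sum_dihedral]; simp [eps, sgn, sub_eq_add_neg]

theorem eps_sub (M M' : DAlg m) : eps (M - M') = eps M - eps M' := by
  simp [eps_eq, mul_sub, sum_sub_distrib]

theorem eps_smul (a : ℤ) (M : DAlg m) : eps (a • M) = a * eps M := by
  simp only [eps_eq, MonoidAlgebra.coeff_smul, Finsupp.smul_apply, smul_eq_mul, mul_sum]
  exact sum_congr rfl fun d _ => by ring

open scoped Classical in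
/-- The class as a finite set. -/
noncomputable def clsF (G : Subgroup (Equiv.Perm (DihedralGroup m))) (d : DihedralGroup m) : Finset (DihedralGroup m) :=
  univ.filter (fun z => z ∈ cls G d)

theorem clsF_pos (d : DihedralGroup m) : 0 < #(clsF G d) :=
  card_pos.2 ⟨d, by simp [clsF, mem_cls_self]⟩

/-- The scaling constant. -/
noncomputable def nN (G : Subgroup (Equiv.Perm (DihedralGroup m))) : ℕ := ∏ d, #(clsF G d)

theorem nN_pos : 0 < nN G := prod_pos fun d _ => clsF_pos d

/-- The sign of a class times the scaling constant over its size. -/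
noncomputable def eFun (G : Subgroup (Equiv.Perm (DihedralGroup m))) (d : DihedralGroup m) : ℤ :=
  eps (ind G d) * (nN G / #(clsF G d) : ℕ)

/-- The representing element. -/
noncomputable def eElt (G : Subgroup (Equiv.Perm (DihedralGroup m))) : DAlg m := mk (eFun G)

variable (hL : ∀ t, Equiv.mulLeft t ∈ G)

include hL in
theorem eFun_cls {d z : DihedralGroup m} (h : z ∈ cls G d) : eFun G z = eFun G d := by
  classical
  have h1 : clsF G z = clsF G d := by ext w; simp [clsF, cls_eq hL h]
  have h2 : ind G z = ind G d := extD fun w => by simp [ind_apply, cls_eq hL h]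
  rw [eFun, eFun, h1, h2]

include hL in
theorem isB_eElt : IsB G (eElt G) :=
  isB_mk (fun g hg u v => eFun_cls hL ⟨g, hg, u, v, rfl, Or.inl rfl⟩)
    (fun d => eFun_cls hL (inv_mem_cls (mem_cls_self d)))

theorem eFun_one : eFun G 1 = nN G := by
  classical
  have h1 : cls G (1 : DihedralGroup m) = {1} := by
    refine Set.ext fun z => ⟨fun hz => ?_, fun hz => by rw [Set.mem_singleton_iff.1 hz]; exact mem_cls_self 1⟩
    obtain ⟨g, -, u, v, h, h'⟩ := hz
    rw [inv_mul_eq_one.1 h, inv_mul_cancel] at h'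
    rcases h' with h' | h'
    · exact h'.symm
    · exact inv_eq_one.1 h'.symm
  have h2 : clsF G (1 : DihedralGroup m) = {1} := by
    ext z; simp [clsF, h1]
  have h3 : eps (ind G (1 : DihedralGroup m)) = 1 := by
    rw [eps_eq, sum_eq_single_of_mem (1 : DihedralGroup m) (mem_univ _)]
    · rw [ind_self, mul_one, DihedralGroup.one_def]; rfl
    · intro z _ hz
      rw [ind_apply, if_neg (by rw [h1]; exact hz), mul_zero]
  rw [eFun, h2, h3]
  simp

include hL in
/-- The element represents the sign character. -/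
theorem sum_eFun {M : DAlg m} (hM : IsB G M) : ∑ d, eFun G d * M.coeff d = nN G * eps M := by
  classical
  have h1 : ∀ d, eFun G d * M.coeff d =
      ∑ z, if z ∈ cls G d then sgn z * M.coeff z * (nN G / #(clsF G z) : ℕ) else 0 := by
    intro d
    rw [eFun, eps_eq, sum_mul, sum_mul]
    refine sum_congr rfl fun z _ => ?_
    rw [ind_apply]
    split
    · rename_i hz
      rw [hM.apply_eq hz, show clsF G z = clsF G d by simp [clsF, cls_eq hL hz]]
      ring
    · simp
  simp only [h1]
  rw [sum_comm, eps_eq, mul_sum]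
  refine sum_congr rfl fun z _ => ?_
  have h2 : univ.filter (fun d => z ∈ cls G d) = clsF G z := by
    ext d
    simp only [mem_filter, mem_univ, true_and, clsF]
    exact ⟨fun h => by rw [cls_eq hL h]; exact mem_cls_self d, fun h => by rw [cls_eq hL h]; exact mem_cls_self z⟩
  rw [← sum_filter, sum_const, h2, nsmul_eq_mul]
  have h3 : #(clsF G z) ∣ nN G := dvd_prod_of_mem _ (mem_univ z)
  calc ((#(clsF G z) : ℕ) : ℤ) * (sgn z * M.coeff z * ((nN G / #(clsF G z) : ℕ) : ℤ))
      = sgn z * M.coeff z * ((#(clsF G z) * (nN G / #(clsF G z)) : ℕ) : ℤ) := by rw [Nat.cast_mul]; ring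
    _ = _ := by rw [Nat.mul_div_cancel' h3]; ring

theorem mul_apply_one {a b : DAlg m} (hb : ∀ d, b.coeff d⁻¹ = b.coeff d) :
    (a * b).coeff 1 = ∑ d, a.coeff d * b.coeff d := by
  rw [mul_apply']
  exact sum_congr rfl fun w _ => by rw [mul_one, hb]

variable (hprim : Prim G)

include hL hprim in
theorem eElt_mul {M : DAlg m} (hM : IsB G M) : M * eElt G = eps M • eElt G := by
  have hE := isB_eElt hL
  set K := M * eElt G - eps M • eElt G with hK
  have hKB : IsB G K := (hM.mul hprim hE).sub (hE.smul _)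
  have h1 : ∀ {A : DAlg m}, IsB G A → (eElt G * A).coeff 1 = nN G * eps A := fun {A} hA => by
    rw [mul_apply_one hA.2]
    simp only [eElt, coeff_mk]
    exact sum_eFun hL hA
  have h2 : (K * K).coeff 1 = 0 := by
    have : K * K = eElt G * (M * K) - eps M • (eElt G * K) := by
      conv_lhs => arg 1; rw [hK]
      rw [sub_mul, hM.comm hprim hE, mul_assoc, smul_mul_assoc]
    rw [this, MonoidAlgebra.coeff_sub, Finsupp.sub_apply, MonoidAlgebra.coeff_smul, Finsupp.smul_apply, smul_eq_mul,
      h1 (hM.mul hprim hKB), h1 hKB, eps_mul]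
    ring
  rw [mul_apply_one hKB.2, sum_mul_self_eq_zero_iff] at h2
  refine sub_eq_zero.1 (extD fun d => ?_)
  rw [MonoidAlgebra.coeff_zero, Finsupp.zero_apply]
  exact h2 d (mem_univ d)

include hL in
theorem eps_eElt_pos : 0 < eps (eElt G) := by
  have h := sum_eFun hL (isB_eElt hL)
  have hpos : 0 < ∑ d, eFun G d * (eElt G).coeff d := by
    simp only [eElt, coeff_mk]
    refine sum_pos' (fun d _ => mul_self_nonneg _) ⟨1, mem_univ _, ?_⟩
    rw [eFun_one]
    have : (0 : ℤ) < nN G := by exact_mod_cast nN_pos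
    positivity
  rw [h] at hpos
  exact pos_of_mul_pos_right hpos (by positivity)

include hL hprim in
/-- The coefficients on the rotations depend only on the order. -/
theorem eFun_rat {x y : ZMod m} (h : addOrderOf x = addOrderOf y) : eFun G (r x) = eFun G (r y) := by
  classical
  obtain ⟨u, rfl⟩ := exists_unit_mul h
  set σ := eps (eElt G) with hσ
  set B := σ.natAbs + (eFun G (r x) - eFun G (r ((u : ZMod m) * x))).natAbs + 2 with hB
  obtain ⟨q, hqB, hq, hqu⟩ := Nat.forall_exists_prime_gt_and_eq_mod u.isUnit B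
  have hqσ : ¬ (q : ℤ) ∣ σ := fun hd => by
    have := Int.le_of_dvd (eps_eElt_pos hL) hd
    omega
  have hE := isB_eElt hL
  have hpow : ∀ n, eElt G ^ (n + 1) = σ ^ n • eElt G := by
    intro n
    induction n with
    | zero => simp
    | succ n ih => rw [pow_succ, ih, smul_mul_assoc, eElt_mul hL hprim hE, smul_smul, ← hσ, pow_succ]
  have h1 := (dvd_iff_coeff q _).1 (xp_pow_mod hprim hE hq (by omega) 1) ((u : ZMod m) * x)
  rw [pow_one, AddMonoidAlgebra.coeff_sub, Finsupp.sub_apply, coeff_xp, coeff_dil, show q = (q - 1) + 1 by omega, hpow,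
    MonoidAlgebra.coeff_smul, Finsupp.smul_apply, ← show q = (q - 1) + 1 by omega,
    show univ.filter (fun z : ZMod m => (q : ZMod m) * z = (u : ZMod m) * x) = {x} by
      ext z; simp [hqu, u.isUnit.mul_right_inj]] at h1
  simp only [sum_singleton, coeff_xp, eElt, coeff_mk, smul_eq_mul] at h1
  have h2 : (q : ℤ) ∣ σ ^ (q - 1) - 1 :=
    (Int.ModEq.pow_card_sub_one_eq_one hq (isCoprime_comm.1 ((Nat.prime_iff_prime_int.1 hq).coprime_iff_not_dvd.2 hqσ))).symm.dvd
  have h3 : (q : ℤ) ∣ eFun G (r x) - eFun G (r ((u : ZMod m) * x)) := by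
    have h4 := dvd_sub (h2.mul_right (eFun G (r ((u : ZMod m) * x)))) h1
    rw [show (σ ^ (q - 1) - 1) * eFun G (r ((u : ZMod m) * x)) - (σ ^ (q - 1) * eFun G (r ((u : ZMod m) * x)) - eFun G (r x))
      = eFun G (r x) - eFun G (r ((u : ZMod m) * x)) by ring] at h4
    exact h4
  refine sub_eq_zero.1 (Int.eq_zero_of_abs_lt_dvd h3 ?_)
  rw [Int.abs_eq_natAbs]
  omega

end Cfsg.Lib.DihB
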