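import Mathlib
import Cfsg.Agent.Lib.Perm.DihedralBGroup.Sign

/-! Dihedral groups are B-groups. -/

set_option autoImplicit false

namespace Cfsg.Lib.DihB

open DihedralGroup Finset

variable {m : ℕ} [NeZero m]

/-- `p` minus the sum of the subgroup of order `p`. -/
noncomputable def dlt (m p : ℕ) [NeZero m] : CAlg m :=
  open Classical in mkC fun z => (if z = 0 then (p : ℤ) else 0) - if (p : ZMod m) * z = 0 then 1 else 0

/-- Sum over the coset of the subgroup of order `p`. -/
noncomputable def cosetSum (p : ℕ) (X : CAlg m) (c : ZMod m) : ℤ :=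
  ∑ x ∈ univ.filter (fun x : ZMod m => (p : ZMod m) * x = (p : ZMod m) * c), X.coeff x

theorem mul_dlt_apply (p : ℕ) (X : CAlg m) (c : ZMod m) :
    (X * dlt m p).coeff c = (p : ℤ) * X.coeff c - cosetSum p X c := by
  classical
  simp only [mulC_apply, dlt, coeff_mkC, mul_sub, sum_sub_distrib, mul_ite, mul_one, mul_zero, sub_eq_zero, cosetSum]
  congr 1
  · rw [sum_ite_eq univ c, if_pos (mem_univ c), mul_comm]
  · rw [sum_filter]
    exact sum_congr rfl fun x _ => if_congr eq_comm rfl rfl

theorem cosetSum_congr {p : ℕ} (X : CAlg m) {c c' : ZMod m} (h : (p : ZMod m) * c = (p : ZMod m) * c') :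
    cosetSum p X c = cosetSum p X c' := by rw [cosetSum, cosetSum, h]

theorem eq_of_mul_dlt {p : ℕ} (hp : p.Prime) {X : CAlg m} (h : X * dlt m p = 0) {x y : ZMod m}
    (hxy : (p : ZMod m) * x = (p : ZMod m) * y) : X.coeff x = X.coeff y := by
  have h1 := mul_dlt_apply p X x
  have h2 := mul_dlt_apply p X y
  rw [h] at h1 h2
  rw [cosetSum_congr X hxy] at h1
  simp only [AddMonoidAlgebra.coeff_zero, Finsupp.zero_apply] at h1 h2
  exact mul_left_cancel₀ (show (p : ℤ) ≠ 0 by exact_mod_cast hp.ne_zero) (by linarith)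

variable {p k m' : ℕ} (hp : p.Prime) (hm : m = p ^ k * m') (hk : k ≠ 0)

include hp hm hk in
theorem mul_dlt_zero {X : CAlg m}
    (h : ∀ x y : ZMod m, (p : ZMod m) * x = (p : ZMod m) * y → X.coeff x = X.coeff y) : X * dlt m p = 0 := by
  refine extC fun c => ?_
  rw [mul_dlt_apply, cosetSum, sum_congr rfl (fun x hx => h x c (mem_filter.1 hx).2), sum_const,
    card_fibre hp hm hk, nsmul_eq_mul, sub_self]
  simp

/-- Sum of the squared coset counts. -/
theorem bar_mul_dlt_zero (p : ℕ) (Y : CAlg m) :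
    (bar Y * Y * dlt m p).coeff 0 = ∑ i, Y.coeff i * ((p : ℤ) * Y.coeff i - cosetSum p Y i) := by
  rw [mul_assoc, mulC_apply]
  exact Fintype.sum_equiv (Equiv.neg _) _ _ fun i => by simp [mul_dlt_apply]

theorem smulC_mul (a : ℤ) (X Y : CAlg m) : (a • X) * Y = a • (X * Y) := smul_mul_assoc a X Y

variable {G : Subgroup (Equiv.Perm (DihedralGroup m))} (hL : ∀ t, Equiv.mulLeft t ∈ G) (hcop : m'.Coprime p)
  (hp2 : p ≠ 2 ∨ m' = 1) (hprim : Prim G)

/-- The indicator of a union of level sets of the sign element. -/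
noncomputable def lev (G : Subgroup (Equiv.Perm (DihedralGroup m))) (Q : ℤ → Prop) : DAlg m :=
  open Classical in mk fun d => if d ≠ 1 ∧ Q (eFun G d) then 1 else 0

theorem lev_apply (Q : ℤ → Prop) (d : DihedralGroup m) [Decidable (d ≠ 1 ∧ Q (eFun G d))] :
    (lev G Q).coeff d = if d ≠ 1 ∧ Q (eFun G d) then 1 else 0 := by
  simp [lev]

theorem lev_01 (Q : ℤ → Prop) (d : DihedralGroup m) : (lev G Q).coeff d = 0 ∨ (lev G Q).coeff d = 1 := by
  classical
  rw [lev_apply]; split <;> simp

include hL in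
theorem isB_lev (Q : ℤ → Prop) : IsB G (lev G Q) := by
  classical
  refine isB_mk (fun g hg u v => if_congr (and_congr ?_ ?_) rfl rfl) fun d => if_congr (and_congr ?_ ?_) rfl rfl
  · simp [inv_mul_eq_one]
  · rw [eFun_cls hL (d := u⁻¹ * v) ⟨g, hg, u, v, rfl, Or.inl rfl⟩]
  · simp
  · rw [eFun_cls hL (inv_mem_cls (mem_cls_self d))]

include hL hp hm hcop hk hp2 hprim in
theorem eFun_coset {x y : ZMod m} (hxy : (p : ZMod m) * x = (p : ZMod m) * y) (hx : (p : ZMod m) * x ≠ 0) :
    eFun G (r x) = eFun G (r y) := by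
  classical
  have hne : ∀ z : ZMod m, (p : ZMod m) * z ≠ 0 → (r z : DihedralGroup m) ≠ 1 := fun z hz =>
    r_ne_one fun h => hz (by rw [h, mul_zero])
  have hrat : ∀ a b : ZMod m, addOrderOf a = addOrderOf b →
      (lev G (· = eFun G (r x))).coeff (r a) = (lev G (· = eFun G (r x))).coeff (r b) := by
    intro a b hab
    rw [lev_apply, lev_apply]
    refine if_congr (and_congr ?_ ?_) rfl rfl
    · rw [ne_eq, ne_eq, not_iff_not, ← r_zero, DihedralGroup.r.injEq, DihedralGroup.r.injEq,
        ← AddMonoid.addOrderOf_eq_one_iff, hab, AddMonoid.addOrderOf_eq_one_iff]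
    · rw [eFun_rat hL hprim hab]
  have h := rat_inv hp hm hcop hk hL hp2 hprim (isB_lev hL _) (lev_01 _) hrat hxy hx
  rw [lev_apply, lev_apply, if_pos ⟨hne x hx, rfl⟩] at h
  by_contra hn
  rw [if_neg fun h' => hn h'.2.symm] at h
  exact one_ne_zero h

include hp in
theorem order_p {z : ZMod m} (h : (p : ZMod m) * z = 0) (hz : z ≠ 0) : addOrderOf z = p := by
  haveI := Fact.mk hp
  exact addOrderOf_eq_prime (by rw [nsmul_eq_mul, h]) hz

theorem xp_smul (a : ℤ) (M : DAlg m) : xp (a • M) = a • xp M := extC fun c => by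
  simp only [coeff_xp, MonoidAlgebra.coeff_smul, AddMonoidAlgebra.coeff_smul, Finsupp.smul_apply]
theorem yp_smul (a : ℤ) (M : DAlg m) : yp (a • M) = a • yp M := extC fun c => by
  simp only [coeff_yp, MonoidAlgebra.coeff_smul, AddMonoidAlgebra.coeff_smul, Finsupp.smul_apply]

theorem yp_01 (Q : ℤ → Prop) (c : ZMod m) : (yp (lev G Q)).coeff c = 0 ∨ (yp (lev G Q)).coeff c = 1 := by
  rw [coeff_yp]; exact lev_01 _ _

theorem arith_key {θ x y M : ℤ} (h : 2 * x * y = M * (x + y - θ * θ)) (hθxy : θ = x - y) (hle1 : θ * θ ≤ y)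
    (hle2 : θ * θ ≤ M - y) (hxm : x < M) (hx1 : 1 ≤ x) (hθ0 : θ ≠ 0) : y = θ * θ ∧ M = 2 * y := by
  have hsq : 1 ≤ θ * θ := mul_self_pos.2 hθ0
  have hy_eq : y = θ * θ := by
    rcases hle1.lt_or_eq with hlt | heq
    swap
    · exact heq.symm
    exfalso
    have h1 : (y + θ * θ) * (x + y - θ * θ) ≤ 2 * x * y := by
      rw [h]; exact mul_le_mul_of_nonneg_right (by linarith) (by linarith)
    have h2 : (y - θ * θ) * (y + θ * θ - x) ≤ 0 := by linarith
    have h3 : y + θ * θ - x ≤ 0 := nonpos_of_mul_nonpos_right h2 (by linarith) |>.trans le_rfl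
    have hθ1 : θ = 1 := by
      have h4 : θ * θ ≤ θ := by linarith
      have h5 : 0 < θ := by linarith
      have h6 : θ * θ ≤ θ * 1 := by linarith
      have := le_of_mul_le_mul_left h6 h5
      omega
    subst hθ1
    have hxy : x = y + 1 := by omega
    subst hxy
    have h7 : (y + 1) * (2 * y) = M * (2 * y) := by linarith
    have := mul_right_cancel₀ (show (2 * y) ≠ 0 by omega) h7
    omega
  refine ⟨hy_eq, ?_⟩
  rw [← hy_eq, add_sub_cancel_right] at h
  exact mul_right_cancel₀ (show x ≠ 0 by omega) (by linarith : M * x = (2 * y) * x)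

set_option maxHeartbeats 3200000 in
include hL hp hm hcop hk hp2 hprim in
theorem two_trans : ∀ u v u' v' : DihedralGroup m, u ≠ v → u' ≠ v' → ∃ g ∈ G, g u = u' ∧ g v = v' := by
  classical
  have hm2 := two_le hp hm hk
  obtain ⟨a, ha⟩ := exists_order_p hp hm hk
  have ha0 : a ≠ 0 := fun h => hp.ne_one (by rw [← ha, h, addOrderOf_zero])
  have hpa : (p : ZMod m) * a = 0 := by rw [← nsmul_eq_mul, ← ha, addOrderOf_nsmul_eq_zero]
  set v0 := eFun G (r a) with hv0
  set N0 : ℤ := eFun G 1 with hN0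
  set ρ := N0 - v0 with hρdef
  set E := eElt G with hEdef
  have hEB : IsB G E := isB_eElt hL
  set σ := eps E with hσ
  have hσpos : 0 < σ := eps_eElt_pos hL
  have hEE : E * E = σ • E := eElt_mul hL hprim hEB
  have hE : ∀ d, E.coeff d = eFun G d := fun d => by simp [hEdef, eElt]
  -- the top part of the rotation part of `E` is scalar
  have hρ : ρ ≠ 0 := by
    intro hρ0
    have h1 : (E * E).coeff 1 = (E * E).coeff (r a) := by
      rw [hEE, MonoidAlgebra.coeff_smul, Finsupp.smul_apply, Finsupp.smul_apply, hE, hE, ← hv0, ← hN0, sub_eq_zero.1 hρ0]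
    rw [mul_apply_one hEB.2, mul_apply'] at h1
    have h2 : ∑ w, (E.coeff w - E.coeff (w⁻¹ * r a)) * (E.coeff w - E.coeff (w⁻¹ * r a)) = 0 := by
      have h3 : ∑ w, E.coeff (w⁻¹ * r a) * E.coeff (w⁻¹ * r a) = ∑ w, E.coeff w * E.coeff w := by
        refine Fintype.sum_equiv ((Equiv.inv _).trans (Equiv.mulRight (r a))) _ _ fun w => ?_
        simp
      simp only [sub_mul, mul_sub, sum_sub_distrib]
      rw [h3, h1]
      simp only [mul_comm (E.coeff _) (E.coeff _)]
      ring_nf
    rw [sum_mul_self_eq_zero_iff] at h2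
    have hinv : ∀ d, E.coeff ((r a)⁻¹ * d) = E.coeff d := fun d => by
      have := h2 d (mem_univ d)
      rw [sub_eq_zero] at this
      rw [this, ← hEB.2 (d⁻¹ * r a), mul_inv_rev, inv_inv]
    have hc := const_of_left_inv hprim hEB.1 (inv_ne_one.2 (r_ne_one ha0)) hinv
    have h4 : σ = 0 := by
      rw [hσ, eps]
      simp only [coeff_xp, coeff_yp, fun d => hc d, sub_self]
    omega
  have hXE : xp E * dlt m p = ρ • dlt m p := by
    have h := mul_dlt_zero (X := xp E - ρ • 1) hp hm hk (fun x y hxy => ?_)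
    · rw [sub_mul, smulC_mul, one_mul] at h
      exact sub_eq_zero.1 h
    · simp only [AddMonoidAlgebra.coeff_sub, Finsupp.sub_apply, AddMonoidAlgebra.coeff_smul, Finsupp.smul_apply,
        AddMonoidAlgebra.one_def, AddMonoidAlgebra.coeff_single, Finsupp.single_apply, coeff_xp, hE, smul_eq_mul]
      by_cases hx : (p : ZMod m) * x = 0
      · have hv : ∀ z : ZMod m, (p : ZMod m) * z = 0 →
            eFun G (r z) - ρ * (if 0 = z then 1 else 0) = v0 := fun z hz => by
          rcases eq_or_ne 0 z with rfl | hz0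
          · rw [if_pos rfl, r_zero, hρdef, ← hN0]; ring
          · rw [if_neg hz0, mul_zero, sub_zero, hv0]
            exact eFun_rat hL hprim (by rw [order_p hp hz hz0.symm, ha])
        rw [hv x hx, hv y (hxy ▸ hx)]
      · rw [eFun_coset hp hm hk hL hcop hp2 hprim hxy hx, if_neg, if_neg]
        · rintro rfl; exact hx (by rw [hxy, mul_zero])
        · rintro rfl; exact hx (mul_zero _)
  have hconst : ∀ M : DAlg m, IsB G M → xp M * dlt m p = 0 → yp M * dlt m p = 0 → ∀ d, M.coeff d = M.coeff 1 := by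
    intro M hM h1 h2
    refine const_of_left_inv hprim hM.1 (r_ne_one ha0) fun d => ?_
    rcases d with c | c
    · have := eq_of_mul_dlt hp h1 (x := a + c) (y := c) (by rw [mul_add, hpa, zero_add])
      simpa using this
    · have := eq_of_mul_dlt hp h2 (x := c - a) (y := c) (by rw [mul_sub, hpa, sub_zero])
      simpa using this
  -- properties of unions of levels avoiding `v0`
  have hlev : ∀ Q : ℤ → Prop, ¬ Q v0 → (∃ d, d ≠ 1 ∧ Q (eFun G d)) →
      eps (lev G Q) ≠ 0 ∧ xp (lev G Q) * dlt m p = 0 ∧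
      ρ • (yp (lev G Q) * dlt m p) = eps (lev G Q) • (yp E * dlt m p) ∧
      bar (yp (lev G Q)) * yp (lev G Q) * dlt m p = (eps (lev G Q) * eps (lev G Q)) • dlt m p := by
    intro Q hQ ⟨d0, hd0, hQd⟩
    set V := lev G Q with hV
    have hVB : IsB G V := isB_lev hL Q
    set θ := eps V with hθ
    have hX : xp V * dlt m p = 0 := by
      refine mul_dlt_zero hp hm hk fun x y hxy => ?_
      simp only [coeff_xp, hV, lev_apply]
      by_cases hx : (p : ZMod m) * x = 0
      · have hz : ∀ z : ZMod m, (p : ZMod m) * z = 0 → ¬ ((r z : DihedralGroup m) ≠ 1 ∧ Q (eFun G (r z))) := by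
          rintro z hz ⟨h1, h2⟩
          have hz0 : z ≠ 0 := fun h => h1 (by rw [h, r_zero])
          rw [eFun_rat hL hprim (show addOrderOf z = addOrderOf a by rw [order_p hp hz hz0, ha])] at h2
          exact hQ h2
        rw [if_neg (hz x hx), if_neg (hz y (hxy ▸ hx))]
      · refine if_congr (and_congr ?_ ?_) rfl rfl
        · refine iff_of_true (r_ne_one ?_) (r_ne_one ?_)
          · rintro rfl; exact hx (mul_zero _)
          · rintro rfl; exact hx (by rw [hxy, mul_zero])
        · rw [eFun_coset hp hm hk hL hcop hp2 hprim hxy hx]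
    have heq := eElt_mul hL hprim hVB
    rw [← hEdef, ← hθ] at heq
    have h1 : bar (yp V) * (yp E * dlt m p) = (θ * ρ) • dlt m p := by
      have h := congrArg (fun M => xp M * dlt m p) heq
      simp only [xp_mul, xp_smul, add_mul, smulC_mul] at h
      rw [hXE, mul_comm (xp V) (xp E), mul_assoc (xp E), hX, mul_zero, zero_add, mul_assoc, smul_smul] at h
      exact h
    have h2 : ρ • (yp V * dlt m p) = θ • (yp E * dlt m p) := by
      have h := congrArg (fun M => yp M * dlt m p) heq
      simp only [hVB.yp_mul, yp_smul, add_mul, smulC_mul] at h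
      rw [mul_comm (xp V), mul_assoc (yp E), hX, mul_zero, zero_add, mul_assoc, hXE, mul_smul_comm] at h
      exact h
    have h3 : bar (yp V) * yp V * dlt m p = (θ * θ) • dlt m p := by
      refine extC fun c => mul_left_cancel₀ hρ ?_
      have h := congrArg (fun Z => bar (yp V) * Z) h2
      simp only [mul_smul_comm, h1, smul_smul] at h
      have h' := congrArg (fun Z : CAlg m => Z.coeff c) h
      simp only [AddMonoidAlgebra.coeff_smul, Finsupp.smul_apply, smul_eq_mul] at h' ⊢
      rw [mul_assoc (bar (yp V)), h']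
      ring
    refine ⟨fun h0 => ?_, hX, h2, h3⟩
    rw [h0, zero_smul] at h2
    have hY : yp V * dlt m p = 0 := (smul_eq_zero.1 h2).resolve_left hρ
    have := hconst V hVB hX hY d0
    rw [hV, lev_apply, lev_apply, if_pos ⟨hd0, hQd⟩, if_neg (fun h => h.1 rfl)] at this
    exact one_ne_zero this
  by_cases hall : ∀ d : DihedralGroup m, d ≠ 1 → eFun G d = v0
  · -- one class: two-transitive
    have hcls : ∀ d z : DihedralGroup m, d ≠ 1 → z ≠ 1 → z ∈ cls G d := by
      intro d z hd hz
      have heq := eElt_mul hL hprim (isB_ind hL d)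
      rw [← hEdef] at heq
      have hval : ∀ z : DihedralGroup m, z ≠ 1 →
          ρ * (ind G d).coeff z + v0 * ∑ w, (ind G d).coeff w = eps (ind G d) * v0 := by
        intro z hz
        have h := congrArg (fun M : DAlg m => M.coeff z) heq
        simp only [mul_apply', MonoidAlgebra.coeff_smul, Finsupp.smul_apply, smul_eq_mul, hE, hall z hz] at h
        rw [← h, mul_sum]
        have h1 : ∀ w : DihedralGroup m, (ind G d).coeff w * eFun G (w⁻¹ * z) =
            (if z = w then ρ * (ind G d).coeff w else 0) + v0 * (ind G d).coeff w := by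
          intro w
          by_cases hw : z = w
          · rw [if_pos hw, hw, inv_mul_cancel, ← hN0, hρdef]; ring
          · rw [if_neg hw, hall _ (fun e => hw (inv_mul_eq_one.1 e).symm)]; ring
        simp only [h1, sum_add_distrib, sum_ite_eq, mem_univ, if_true]
      have h1 := hval d hd
      have h2 := hval z hz
      rw [ind_self] at h1
      have h3 : (ind G d).coeff z = 1 := mul_left_cancel₀ hρ (by linarith)
      by_contra hn
      rw [ind_apply, if_neg hn] at h3
      exact zero_ne_one h3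
    intro u v u' v' huv huv'
    set d0 : DihedralGroup m := sr 0 with hd0
    have hpair : ∀ u v : DihedralGroup m, u ≠ v → ∃ g ∈ G, g 1 = u ∧ g d0 = v := by
      intro u v huv
      obtain ⟨g, hg, x, y, hxy, h⟩ := hcls d0 (u⁻¹ * v) (sr_ne_one 0) (fun e => huv (inv_mul_eq_one.1 e))
      have hy : y = x * d0 := by rw [← hxy, mul_inv_cancel_left]
      rcases h with h | h
      · refine ⟨Equiv.mulLeft (u * (g x)⁻¹) * g * Equiv.mulLeft x, mul_mem (mul_mem (hL _) hg) (hL _), ?_, ?_⟩
        · simp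
        · simp [← hy, mul_assoc, h]
      · have hgx : g x = g y * (u⁻¹ * v) := by
          rw [← inv_inj, mul_inv_rev, inv_inv] at h
          simp only [inv_inv] at h
          rw [← h, mul_inv_cancel_left]
        refine ⟨Equiv.mulLeft (u * (g y)⁻¹) * g * Equiv.mulLeft y, mul_mem (mul_mem (hL _) hg) (hL _), ?_, ?_⟩
        · simp
        · have : y * d0 = x := by rw [hy, mul_assoc, hd0, sr_mul_sr, sub_zero, r_zero, mul_one]
          simp [this, hgx, mul_assoc]
    obtain ⟨g, hg, h1, h2⟩ := hpair u v huv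
    obtain ⟨g', hg', h1', h2'⟩ := hpair u' v' huv'
    refine ⟨g' * g⁻¹, mul_mem hg' (inv_mem hg), ?_, ?_⟩
    · rw [← h1]; simpa using h1'
    · rw [← h2]; simpa using h2'
  exfalso
  push Not at hall
  obtain ⟨d0, hd0, hv⟩ := hall
  set v1 := eFun G d0 with hv1
  -- at most one level besides `v0`
  have honly : ∀ d : DihedralGroup m, d ≠ 1 → eFun G d ≠ v0 → eFun G d = v1 := by
    intro d hd hdv
    by_contra hne
    set v2 := eFun G d with hv2
    obtain ⟨hA1, -, hA2, hA3⟩ := hlev (· = v1) hv.symm ⟨d0, hd0, rfl⟩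
    obtain ⟨hB1, -, hB2, -⟩ := hlev (· = v2) hdv.symm ⟨d, hd, rfl⟩
    obtain ⟨hC1, -, -, -⟩ := hlev (fun w => w = v1 ∨ w = v2) (fun h => h.elim hv.symm hdv.symm) ⟨d, hd, Or.inr rfl⟩
    set V1 := lev G (· = v1) with hV1
    set V2 := lev G (· = v2) with hV2
    have hsum : lev G (fun w => w = v1 ∨ w = v2) = V1 + V2 := by
      refine extD fun z => ?_
      rw [MonoidAlgebra.coeff_add, Finsupp.add_apply, hV1, hV2, lev_apply, lev_apply, lev_apply]
      by_cases h1 : eFun G z = v1
      · simp [h1, Ne.symm hne]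
      · simp [h1]
    rw [hsum, eps_eq] at hC1
    simp only [MonoidAlgebra.coeff_add, Finsupp.add_apply, mul_add, sum_add_distrib, ← eps_eq] at hC1
    obtain ⟨c, c', hcc, hY⟩ : ∃ c c' : ZMod m, (p : ZMod m) * c = (p : ZMod m) * c' ∧ (yp V1).coeff c ≠ (yp V1).coeff c' := by
      by_contra hno
      push Not at hno
      have h0 := mul_dlt_zero hp hm hk hno
      rw [h0, smul_zero, eq_comm, smul_eq_zero] at hA2
      have hE0 := hA2.resolve_left hA1
      rw [mul_assoc, h0, mul_zero] at hA3
      have := congrArg (fun Z : CAlg m => Z.coeff 0) hA3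
      simp only [AddMonoidAlgebra.coeff_zero, Finsupp.zero_apply, AddMonoidAlgebra.coeff_smul, Finsupp.smul_apply,
        smul_eq_mul, dlt, coeff_mkC, if_true, mul_zero] at this
      rcases mul_eq_zero.1 this.symm with h | h
      · exact hA1 (mul_self_eq_zero.1 h)
      · have := hp.two_le
        omega
    have hkey : eps V2 * ((yp V1).coeff c - (yp V1).coeff c') = eps V1 * ((yp V2).coeff c - (yp V2).coeff c') := by
      have h := congrArg (fun Z => eps V2 • Z) hA2
      have h' := congrArg (fun Z => eps V1 • Z) hB2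
      simp only [smul_smul] at h h'
      rw [mul_comm (eps V1) (eps V2), ← h] at h'
      have e1 := congrArg (fun Z : CAlg m => Z.coeff c) h'
      have e2 := congrArg (fun Z : CAlg m => Z.coeff c') h'
      simp only [AddMonoidAlgebra.coeff_smul, Finsupp.smul_apply, smul_eq_mul, mul_dlt_apply] at e1 e2
      rw [cosetSum_congr (yp V1) hcc, cosetSum_congr (yp V2) hcc] at e1
      have hp0 : ρ * (p : ℤ) ≠ 0 := mul_ne_zero hρ (by exact_mod_cast hp.ne_zero)
      refine mul_left_cancel₀ hp0 ?_
      linear_combination e2 - e1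
    have hdisj : ∀ z : ZMod m, (yp V1).coeff z = 0 ∨ (yp V2).coeff z = 0 := by
      intro z
      simp only [coeff_yp, hV1, hV2, lev_apply]
      by_cases h1 : eFun G (sr z) = v1
      · right; rw [if_neg]; exact fun h => hne (h.2.symm.trans h1)
      · left; rw [if_neg]; exact fun h => h1 h.2
    rcases yp_01 (G := G) (· = v1) c with e | e <;> rcases yp_01 (G := G) (· = v1) c' with e' | e' <;>
      rcases yp_01 (G := G) (· = v2) c with f | f <;> rcases yp_01 (G := G) (· = v2) c' with f' | f' <;>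
      rw [← hV1] at e e' <;> rw [← hV2] at f f' <;> rw [e, e', f, f'] at hkey <;> simp only [e, e'] at hY <;>
      have g1 := hdisj c <;> have g2 := hdisj c' <;> rw [e, f] at g1 <;> rw [e', f'] at g2 <;> omega
  obtain ⟨hθ0, hX, -, hN⟩ := hlev (· = v1) hv.symm ⟨d0, hd0, rfl⟩
  set W := lev G (· = v1) with hW
  have hWB : IsB G W := isB_lev hL _
  set θ := eps W with hθ
  set X := xp W with hXdef
  set Y := yp W with hYdef
  set x := ∑ c, X.coeff c with hx
  set y := ∑ c, Y.coeff c with hy
  have hY01 : ∀ c, Y.coeff c = 0 ∨ Y.coeff c = 1 := yp_01 _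
  have hX01 : ∀ c, X.coeff c = 0 ∨ X.coeff c = 1 := fun c => by rw [hXdef, coeff_xp]; exact lev_01 _ _
  have hθxy : θ = x - y := rfl
  -- the square of `W` is `θ² + λ J`
  set M := W * W - (θ * θ) • (1 : DAlg m) with hM
  have hMc : ∀ d, M.coeff d = M.coeff 1 := by
    refine hconst M ((hWB.mul hprim hWB).sub (isB_one.smul _)) ?_ ?_
    · have : xp M = X * X + bar Y * Y - (θ * θ) • (1 : CAlg m) := by
        rw [hM, show ∀ a b : DAlg m, xp (a - b) = xp a - xp b from fun a b => extC fun c => by simp, xp_mul, xp_smul, xp_one]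
      rw [this, sub_mul, add_mul, mul_assoc, hX, mul_zero, zero_add, hN, smulC_mul, one_mul, sub_self]
    · have : yp M = X * Y + Y * X := by
        rw [hM, show ∀ a b : DAlg m, yp (a - b) = yp a - yp b from fun a b => extC fun c => by simp, hWB.yp_mul, yp_smul,
          yp_one, smul_zero, sub_zero]
      rw [this, mul_comm X Y, add_mul, mul_assoc, hX, mul_zero, add_zero]
  have hlam : M.coeff 1 = x + y - θ * θ := by
    rw [hM, MonoidAlgebra.coeff_sub, Finsupp.sub_apply, mul_apply_one hWB.2, MonoidAlgebra.coeff_smul,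
      Finsupp.smul_apply, MonoidAlgebra.one_def, MonoidAlgebra.coeff_single, Finsupp.single_eq_same, smul_eq_mul, mul_one,
      sum_dihedral, hx, hy]
    congr 2 <;> refine sum_congr rfl fun c _ => ?_
    · rw [hXdef, coeff_xp]; rcases lev_01 (G := G) (· = v1) (r c) with e | e <;> rw [← hW] at e <;> rw [e] <;> norm_num
    · rw [hYdef, coeff_yp]; rcases lev_01 (G := G) (· = v1) (sr c) with e | e <;> rw [← hW] at e <;> rw [e] <;> norm_num
  have hsum : (m : ℤ) * (x + y - θ * θ) = x * x + y * y - θ * θ := by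
    have h : ∑ c, (xp M).coeff c = x * x + y * y - θ * θ := by
      rw [hM, show ∀ a b : DAlg m, xp (a - b) = xp a - xp b from fun a b => extC fun c => by simp, xp_mul, xp_smul, xp_one]
      simp only [AddMonoidAlgebra.coeff_sub, Finsupp.sub_apply, AddMonoidAlgebra.coeff_add, Finsupp.add_apply,
        AddMonoidAlgebra.coeff_smul, Finsupp.smul_apply, sum_sub_distrib, sum_add_distrib, sum_mul', sum_bar, ← hXdef,
        ← hYdef, ← hx, ← hy]
      congr 1
      rw [← smul_sum, AddMonoidAlgebra.one_def, AddMonoidAlgebra.coeff_single]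
      simp [Finsupp.single_apply]
    rw [← h]
    simp only [coeff_xp, hMc, hlam, sum_const, card_univ, ZMod.card, nsmul_eq_mul]
  -- bounds from the cosets
  have hQ : ∑ i, Y.coeff i * ((p : ℤ) * Y.coeff i - cosetSum p Y i) = θ * θ * ((p : ℤ) - 1) := by
    rw [← bar_mul_dlt_zero, hN, AddMonoidAlgebra.coeff_smul, Finsupp.smul_apply, dlt, coeff_mkC, if_pos rfl,
      if_pos (mul_zero _), smul_eq_mul]
  have hYnn : ∀ z, 0 ≤ Y.coeff z := fun z => by rcases hY01 z with e | e <;> omega
  have hself : ∀ i, Y.coeff i ≤ cosetSum p Y i := fun i =>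
    single_le_sum (f := fun z => Y.coeff z) (fun z _ => hYnn z) (by simp)
  have htot : ∑ i, cosetSum p Y i = (p : ℤ) * y := by
    simp only [cosetSum, sum_filter]
    rw [sum_comm, hy, mul_sum]
    refine sum_congr rfl fun z _ => ?_
    rw [← sum_filter, sum_const, nsmul_eq_mul]
    congr 2
    conv_rhs => rw [← card_fibre hp hm hk (x := z)]
    congr 1
    ext i
    simp [eq_comm]
  have hpz : (2 : ℤ) ≤ p := by exact_mod_cast hp.two_le
  have hterm : ∀ i, Y.coeff i * ((p : ℤ) * Y.coeff i - cosetSum p Y i) ≤ Y.coeff i * ((p : ℤ) - 1) := fun i => by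
    have := hself i
    rcases hY01 i with e | e <;> rw [e] at this ⊢ <;> linarith
  have hle1 : θ * θ ≤ y := by
    have := sum_le_sum (s := univ) fun i _ => hterm i
    rw [hQ, ← sum_mul, ← hy] at this
    exact le_of_mul_le_mul_right this (by linarith)
  have hle2 : θ * θ ≤ m - y := by
    have hc : ∀ i, (1 - Y.coeff i) * (cosetSum p Y i - (p : ℤ) * Y.coeff i) ≤ (1 - Y.coeff i) * ((p : ℤ) - 1) := by
      intro i
      rcases hY01 i with e | e <;> rw [e]
      · simp only [sub_zero, one_mul, mul_zero]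
        have h1 : cosetSum p Y i ≤ ∑ z ∈ (univ.filter (fun z : ZMod m => (p : ZMod m) * z = (p : ZMod m) * i)).erase i, (1 : ℤ) := by
          rw [cosetSum, ← add_sum_erase _ _ (show i ∈ univ.filter (fun z : ZMod m => (p : ZMod m) * z = (p : ZMod m) * i) by simp), e, zero_add]
          exact sum_le_sum fun z _ => by rcases hY01 z with f | f <;> omega
        rw [sum_const, card_erase_of_mem (by simp), card_fibre hp hm hk, nsmul_eq_mul, mul_one, Nat.cast_sub hp.one_le] at h1
        push_cast at h1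
        exact h1
      · simp
    have := sum_le_sum (s := univ) fun i _ => hc i
    have e1 : ∑ i, (1 - Y.coeff i) * (cosetSum p Y i - (p : ℤ) * Y.coeff i) = θ * θ * ((p : ℤ) - 1) := by
      simp only [sub_mul (1 : ℤ), one_mul, sum_sub_distrib, htot, ← mul_sum, ← hy, sub_self, zero_sub]
      rw [← hQ, ← sum_neg_distrib]
      exact sum_congr rfl fun i _ => by ring
    rw [e1, ← sum_mul, sum_sub_distrib, ← hy, sum_const, card_univ, ZMod.card, nsmul_eq_mul, mul_one] at this
    exact le_of_mul_le_mul_right this (by linarith)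
  have hxm : x < m := by
    have h0 : X.coeff 0 = 0 := by rw [hXdef, coeff_xp, hW, lev_apply, if_neg]; simp
    have h1 : x ≤ ∑ _c ∈ (univ : Finset (ZMod m)).erase 0, (1 : ℤ) := by
      rw [hx, ← add_sum_erase univ (fun c => X.coeff c) (mem_univ 0), h0, zero_add]
      exact sum_le_sum fun c _ => by rcases hX01 c with e | e <;> omega
    rw [sum_const, card_erase_of_mem (mem_univ _), card_univ, ZMod.card, nsmul_eq_mul, mul_one] at h1
    omega
  have hx1 : 1 ≤ x := by
    obtain ⟨c, hc⟩ := meets0 hL hm2 hprim hd0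
    have h1 : X.coeff c = 1 := by
      rw [hXdef, coeff_xp, hWB.apply_eq hc, hW, lev_apply, if_pos ⟨hd0, rfl⟩]
    rw [hx, ← h1]
    exact single_le_sum (f := fun z => X.coeff z) (fun z _ => by rcases hX01 z with e | e <;> omega) (mem_univ c)
  have hθsq : 0 < θ * θ := mul_self_pos.2 hθ0
  obtain ⟨hy_eq, hmy⟩ := arith_key (show 2 * x * y = m * (x + y - θ * θ) by rw [hsum, hθxy]; ring)
    hθxy hle1 hle2 hxm hx1 hθ0
  have heq : ∀ i, Y.coeff i * ((p : ℤ) * Y.coeff i - cosetSum p Y i) = Y.coeff i * ((p : ℤ) - 1) := by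
    refine fun i => (sum_eq_sum_iff_of_le fun i _ => hterm i).1 ?_ i (mem_univ i)
    rw [hQ, ← sum_mul, ← hy, hy_eq]
  have hcs : ∀ i, cosetSum p Y i ≤ 1 := by
    intro i
    by_contra hgt
    obtain ⟨z, hz, hz0⟩ := exists_ne_zero_of_sum_ne_zero (show cosetSum p Y i ≠ 0 by omega)
    simp only [mem_filter, mem_univ, true_and] at hz
    have hz1 := (hY01 z).resolve_left hz0
    have := heq z
    rw [hz1, one_mul, one_mul, mul_one, cosetSum_congr Y hz] at this
    omega
  have hpy : (p : ℤ) * y ≤ m := by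
    rw [← htot]
    calc ∑ i, cosetSum p Y i ≤ ∑ _i : ZMod m, (1 : ℤ) := sum_le_sum fun i _ => hcs i
      _ = m := by simp [ZMod.card]
  have hp_two : p = 2 := by
    have : (p : ℤ) ≤ 2 := le_of_mul_le_mul_right (by linarith : (p : ℤ) * y ≤ 2 * y) (by omega)
    omega
  obtain rfl := hp_two
  obtain rfl : m' = 1 := hp2.resolve_left (by simp)
  rw [mul_one] at hm
  obtain ⟨h, hh⟩ : ∃ h, k = h + 1 := ⟨k - 1, by omega⟩
  have hmH : m = 2 ^ h + 2 ^ h := by rw [hm, hh, pow_succ]; omega
  set H := 2 ^ h with hHdef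
  have hyH : y = (H : ℤ) := by omega
  -- every coset meets `Y` exactly once
  have hcs1 : ∀ i, cosetSum 2 Y i = 1 := by
    intro i
    refine (sum_eq_sum_iff_of_le (fun i _ => hcs i)).1 ?_ i (mem_univ i)
    rw [htot]; simp [ZMod.card]; omega
  have hH0 : (H : ZMod m) ≠ 0 := by
    rw [ne_eq, ZMod.natCast_eq_zero_iff]
    exact fun hd => by have := Nat.le_of_dvd (by positivity) hd; have := Nat.two_pow_pos h; omega
  have h2H : (2 : ZMod m) * (H : ZMod m) = 0 := by
    rw [two_mul, ← Nat.cast_add, ← hmH, ZMod.natCast_self]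
  have hcoset : ∀ c : ZMod m, univ.filter (fun z : ZMod m => ((2 : ℕ) : ZMod m) * z = ((2 : ℕ) : ZMod m) * c) = {c, c + (H : ZMod m)} := by
    intro c
    refine (eq_of_subset_of_card_le ?_ ?_).symm
    · intro z hz
      rw [mem_insert, mem_singleton] at hz
      rcases hz with rfl | rfl <;> simp [mul_add, h2H]
    · rw [card_fibre hp (show m = 2 ^ k * 1 by rw [mul_one, hm]) hk, card_pair (fun e => hH0 (by simpa using e))]
  have hflip : ∀ c : ZMod m, Y.coeff c + Y.coeff (c + (H : ZMod m)) = 1 := by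
    intro c
    rw [← hcs1 c, cosetSum, hcoset, sum_pair (fun e => hH0 (by simpa using e))]
  -- autocorrelation at distance one
  have hHe : H % 2 = 0 := by
    rcases Nat.eq_zero_or_pos h with h0 | h0
    · exfalso
      have : H = 1 := by rw [hHdef, h0, pow_zero]
      have hth : θ * θ = 1 := by omega
      rcases mul_self_eq_one_iff.1 hth with e | e <;> omega
    · obtain ⟨j, rfl⟩ : ∃ j, h = j + 1 := ⟨h - 1, by omega⟩
      rw [hHdef, pow_succ]; omega
  obtain ⟨t, ht⟩ : ∃ t, θ = 2 * t := by
    have : Even (θ * θ) := by rw [← hy_eq, hyH]; exact_mod_cast Nat.even_iff.2 hHe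
    rw [Int.even_mul, or_self] at this
    exact this.two_dvd
  set N := bar Y * Y with hNdef
  have hNap : ∀ c, N.coeff c = ∑ i, Y.coeff i * Y.coeff (i + c) := by
    intro c
    rw [hNdef, mulC_apply]
    exact Fintype.sum_equiv (Equiv.neg _) _ _ fun i => by simp [sub_eq_add_neg, add_comm]
  have hN1 : 2 * N.coeff 1 = y := by
    have h := congrArg (fun Z : CAlg m => Z.coeff 1) hN
    simp only [mul_dlt_apply, AddMonoidAlgebra.coeff_smul, Finsupp.smul_apply] at h
    have h12 : ((2 : ℕ) : ZMod m) * (1 : ZMod m) ≠ 0 := by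
      rw [mul_one, ne_eq, ZMod.natCast_eq_zero_iff]
      exact fun hd => by have := Nat.le_of_dvd (by norm_num) hd; omega
    have h10 : (1 : ZMod m) ≠ 0 := fun e => h12 (by rw [e, mul_zero])
    rw [dlt, coeff_mkC, if_neg h10, if_neg h12, sub_self, smul_zero, cosetSum, hcoset,
      sum_pair (fun e => hH0 (by simpa using e))] at h
    have h' : N.coeff 1 + N.coeff (1 + (H : ZMod m)) = y := by
      rw [hNap, hNap, ← sum_add_distrib, hy]
      refine sum_congr rfl fun i _ => ?_
      rw [← mul_add, ← add_assoc, hflip, mul_one]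
    push_cast at h
    linarith
  let f : ℕ → ℤ := fun i => Y.coeff ((i : ℕ) : ZMod m)
  have hf : ∀ i, f (H + i) = 1 - f i := fun i => by
    have := hflip (i : ZMod m)
    simp only [f, Nat.cast_add]
    rw [add_comm (H : ZMod m)]
    linarith
  have hN1' : N.coeff 1 = ∑ i ∈ range H, ((1 : ℤ) + (f (i + 1) - f i) + 2 * (f (i + 1) * (f i - 1))) := by
    rw [hNap, show (∑ i : ZMod m, Y.coeff i * Y.coeff (i + 1)) = ∑ i ∈ range m, f i * f (i + 1) from
      sum_nbij' (fun i => i.val) (fun i => (i : ZMod m)) (fun i _ => mem_range.2 (ZMod.val_lt i)) (fun i _ => mem_univ _)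
        (fun i _ => ZMod.natCast_zmod_val i) (fun i hi => ZMod.val_cast_of_lt (mem_range.1 hi))
        (fun i _ => by simp [f]), show range m = range (H + H) by rw [hmH], sum_range_add, ← sum_add_distrib]
    refine sum_congr rfl fun i _ => ?_
    rw [add_assoc H i 1, hf, hf]
    ring
  rw [sum_add_distrib, sum_add_distrib, sum_range_sub f, ← mul_sum, sum_const, card_range, nsmul_eq_mul, mul_one] at hN1'
  have hfH : f H = 1 - f 0 := by simpa using hf 0
  obtain ⟨H2, hH2⟩ : 2 ∣ H := Nat.dvd_of_mod_eq_zero hHe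
  have : θ * θ = 4 * (t * t) := by rw [ht]; ring
  have hH2' : (H : ℤ) = 2 * (H2 : ℤ) := by exact_mod_cast hH2
  omega

end Cfsg.Lib.DihB
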